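import Cfsg.Agent.Lib.Helper45.TwistCount2

/-!
# Counting in twisted groups: `U_{n_J}⁻ ∩ G¹`, `U ∩ G¹`, `B ∩ G¹`
-/

set_option autoImplicit false

namespace Cfsg.Agent.Lib.Helper45

open Cfsg.Lie Matrix Cfsg.Agent.Lib.Helper23 Cfsg.Agent.Lib.Helper22 Cfsg.Agent.Lib.Helper8

variable {D : ChevalleyDatum} {F : Type*} [Field F]

theorem neg_of_conj_le (b : Bundle D F) {m : GL D.Idx F} {π : ℕ → ℕ} (h : Acts D F m π)
    (hπ : ∀ r < D.nroots, π r < D.nroots) {r : ℕ} (hr : D.IsPosRoot r)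
    (hle : (D.rootSubgroup F r).map (MulAut.conj m).toMonoidHom ≤ D.negUnipotent F) :
    D.IsNegRoot (π r) := by
  rw [h r hr.1] at hle
  rcases b.hR.pos_or_neg (hπ r hr.1) with hp | hn
  · exfalso
    have h1 : b.hA.X (π r) 1 ∈ D.borelSubgroup F ⊓ D.negUnipotent F :=
      Subgroup.mem_inf.2 ⟨AddFact.pos_le_borel (b.hA.X_mem_pos hp 1),
        hle (b.hA.X_mem_rootSubgroup _ _)⟩
    rw [b.hTri.BV, Subgroup.mem_bot] at h1
    have h2 : (1 : F) = 0 := b.hTri.inj _ hp.1 _ (by rw [← b.hA.coe_X, h1]; rfl)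
    exact one_ne_zero h2
  · exact hn

theorem conj_le_of_neg (b : Bundle D F) {m : GL D.Idx F} {π : ℕ → ℕ} (h : Acts D F m π) {r : ℕ}
    (hr : r < D.nroots) (hn : D.IsNegRoot (π r)) :
    (D.rootSubgroup F r).map (MulAut.conj m).toMonoidHom ≤ D.negUnipotent F := by
  rw [h r hr]
  intro y hy
  obtain ⟨t, rfl⟩ := (b.hA.mem_rootSubgroup_iff _ _).1 hy
  exact b.hA.X_mem_neg hn t

theorem W_wL_zero (hA : AddFact D F) {β : List ℕ} {τ : ℕ → F} (h : ∀ a ∈ β, τ a = 0) :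
    hA.W (wL β τ) = 1 := by
  unfold AddFact.W wL
  rw [List.map_map]
  apply List.prod_eq_one
  intro x hx
  obtain ⟨a, ha, rfl⟩ := List.mem_map.1 hx
  simp only [Function.comp, h a ha]
  exact hA.X_zero _

theorem W_wL_single (hA : AddFact D F) {β : List ℕ} (hnd : β.Nodup) {a : ℕ} (ha : a ∈ β) (t : F) :
    hA.W (wL β fun a' => if a' = a then t else 0) = hA.X a t := by
  induction β with
  | nil => simp at ha
  | cons a₀ β ih =>
    rw [List.nodup_cons] at hnd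
    rw [wL_cons, W_cons]
    by_cases e : a₀ = a
    · subst e
      rw [W_wL_zero hA, mul_one]
      · simp
      · intro a' ha'
        rw [if_neg]
        rintro rfl
        exact hnd.1 ha'
    · have ha' : a ∈ β := by
        rcases List.mem_cons.1 ha with h | h
        · exact absurd h.symm e
        · exact h
      rw [ih hnd.2 ha']
      simp [e]

theorem W_wL_add (hA : AddFact D F) {β : List ℕ}
    (hcomm : ∀ a ∈ β, ∀ a' ∈ β, ∀ t u : F, Commute (hA.X a t) (hA.X a' u)) (τ τ' : ℕ → F) :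
    hA.W (wL β τ) * hA.W (wL β τ') = hA.W (wL β fun a => τ a + τ' a) := by
  induction β with
  | nil => simp [wL, AddFact.W]
  | cons a β ih =>
    have hc' : ∀ a ∈ β, ∀ a' ∈ β, ∀ t u : F, Commute (hA.X a t) (hA.X a' u) :=
      fun x hx y hy => hcomm x (by simp [hx]) y (by simp [hy])
    rw [wL_cons, wL_cons, wL_cons, W_cons, W_cons, W_cons, ← ih hc', hA.X_add]
    have h1 : Commute (hA.X a (τ' a)) (hA.W (wL β τ)) := by
      unfold AddFact.W
      apply Commute.list_prod_right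
      intro x hx
      obtain ⟨p, hp, rfl⟩ := List.mem_map.1 hx
      obtain ⟨a', ha', rfl⟩ := List.mem_map.1 hp
      exact hcomm a (by simp) a' (by simp [ha']) _ _
    simp only
    calc hA.X a (τ a) * hA.W (wL β τ) * (hA.X a (τ' a) * hA.W (wL β τ'))
        = hA.X a (τ a) * (hA.W (wL β τ) * hA.X a (τ' a)) * hA.W (wL β τ') := by group
      _ = hA.X a (τ a) * (hA.X a (τ' a) * hA.W (wL β τ)) * hA.W (wL β τ') := by rw [h1.eq]
      _ = _ := by group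

theorem mem_closure_block (hA : AddFact D F) {β : List ℕ} (hnd : β.Nodup)
    (hcomm : ∀ a ∈ β, ∀ a' ∈ β, ∀ t u : F, Commute (hA.X a t) (hA.X a' u)) {u : GL D.Idx F}
    (hu : u ∈ Subgroup.closure {x | ∃ a ∈ β, ∃ t : F, x = hA.X a t}) :
    ∃ τ : ℕ → F, u = hA.W (wL β τ) := by
  induction hu using Subgroup.closure_induction with
  | mem x hx =>
    obtain ⟨a, ha, t, rfl⟩ := hx
    exact ⟨_, (W_wL_single hA hnd ha t).symm⟩
  | one => exact ⟨fun _ => 0, (W_wL_zero hA fun _ _ => rfl).symm⟩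
  | mul x y _ _ ihx ihy =>
    obtain ⟨τ, rfl⟩ := ihx
    obtain ⟨τ', rfl⟩ := ihy
    exact ⟨_, W_wL_add hA hcomm τ τ'⟩
  | inv x _ ih =>
    obtain ⟨τ, rfl⟩ := ih
    refine ⟨fun a => -τ a, ?_⟩
    rw [inv_eq_iff_mul_eq_one, W_wL_add hA hcomm]
    exact W_wL_zero hA fun a _ => by simp

/-- `U_n⁻ = U` for a representative of the longest element -/
theorem Umin_eq_pos (b : Bundle D F) {z : List ℕ} (hz : ∀ i ∈ z, i < D.rank)
    (hall : ∀ r < D.nroots, D.IsPosRoot r → D.IsNegRoot (wact D z r)) :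
    Umin D F (b.hA.nword z) = D.posUnipotent F := by
  apply le_antisymm (Umin_le_pos b.hA _)
  rw [b.hA.posUnipotent_eq, Subgroup.closure_le]
  rintro x ⟨r, t, hr, rfl⟩
  exact Subgroup.subset_closure ⟨r, t, hr,
    conj_le_of_neg b (acts_nword b hz) hr.1 (hall r hr.1 hr), b.hA.coe_X r t⟩

namespace TwSetup

variable {b : Bundle D F}
  {σ : GL D.Idx F → GL D.Idx F} {ρ ρ' : ℕ → ℕ} {c : ℕ → F → F} {orbs : List (List ℕ)}
  {cert : List (List ℕ × List (List ℕ))} {G1 : Subgroup (GL D.Idx F)}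
  (X : TwSetup D F b σ ρ ρ' c orbs cert G1)
include X

/-- the elements of `U_{n_J}⁻ ∩ G¹` -/
theorem mem_Umin_inf_iff {ω : List ℕ} (hω : ω ∈ orbs)
    (honly : ∀ r < D.nroots, D.IsPosRoot r → D.IsNegRoot (wact D ω r) → r ∈ ω.map D.simple)
    (g : GL D.Idx F) : g ∈ Umin D F (b.hA.nword ω) ⊓ G1 ↔
      ∃ τ, Compat c ρ' (ω.map D.simple) τ ∧ g = b.hA.W (wL (ω.map D.simple) τ) := by
  have hrk := X.hT.orb.rank ω hω
  have hB := X.hT.posB ω hω
  have hcomm := commute_of_commOK (F := F) X.hD b.hA hB.comm hB.lt hB.lt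
  have hpos : ∀ a ∈ ω.map D.simple, D.IsPosRoot a := by
    intro a ha
    obtain ⟨i, hi, rfl⟩ := List.mem_map.1 ha
    exact b.hR.simple_pos (hrk i hi)
  constructor
  · rintro ⟨h1, h2⟩
    have h3 : g ∈ Subgroup.closure {x | ∃ a ∈ ω.map D.simple, ∃ t : F, x = b.hA.X a t} := by
      refine Subgroup.closure_mono ?_ h1
      rintro x ⟨r, t, hr, hle, hx⟩
      rw [b.hA.eq_X_iff] at hx
      exact ⟨r, honly r hr.1 hr (neg_of_conj_le b (acts_nword b hrk)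
        (fun r hr => b.hR.wact_lt hrk hr) hr hle), t, hx⟩
    obtain ⟨τ, rfl⟩ := mem_closure_block b.hA hB.nodup hcomm h3
    exact ⟨τ, compat_of_fix X.hD b X.hσ hB hpos (X.fixBN.G1_fix h2).2, rfl⟩
  · rintro ⟨τ, hτ, rfl⟩
    refine ⟨?_, posGen_mem b X.hG1 hω hτ⟩
    apply Subgroup.list_prod_mem
    intro x hx
    obtain ⟨p, hp, rfl⟩ := List.mem_map.1 hx
    obtain ⟨a, ha, rfl⟩ := List.mem_map.1 hp
    obtain ⟨i, hi, rfl⟩ := List.mem_map.1 ha
    exact Subgroup.subset_closure ⟨D.simple i, _, hpos _ ha,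
      conj_le_of_neg b (acts_nword b hrk) (hpos _ ha).1 (X.hT.flipP ω hω i hi), b.hA.coe_X _ _⟩

/-- `|B¹| = |U¹| |H¹|` -/
theorem card_B1 : Nat.card ↥(D.borelSubgroup F ⊓ G1) =
    Nat.card ↥(D.posUnipotent F ⊓ G1) * Nat.card ↥(D.diagonalSubgroup F ⊓ G1) := by
  rw [← Nat.card_prod]
  symm
  let Ψ : ↥(D.posUnipotent F ⊓ G1) × ↥(D.diagonalSubgroup F ⊓ G1) → ↥(D.borelSubgroup F ⊓ G1) :=
    fun p => ⟨p.1 * p.2, (b.hA.mem_borel_iff b.hT).2 ⟨p.1, p.1.2.1, p.2, p.2.2.1, rfl⟩,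
      mul_mem p.1.2.2 p.2.2.2⟩
  apply Nat.card_congr (Equiv.ofBijective Ψ ⟨?_, ?_⟩)
  · rintro ⟨u, h⟩ ⟨u', h'⟩ he
    have he' : (u : GL D.Idx F) * h = u' * h' := congrArg Subtype.val he
    have h1 : (u' : GL D.Idx F)⁻¹ * u = h' * (h : GL D.Idx F)⁻¹ := by
      calc (u' : GL D.Idx F)⁻¹ * u = (u' : GL D.Idx F)⁻¹ * (u * h) * (h : GL D.Idx F)⁻¹ := by group
        _ = h' * (h : GL D.Idx F)⁻¹ := by rw [he']; group
    have h2 : (u' : GL D.Idx F)⁻¹ * u ∈ D.posUnipotent F ⊓ D.diagonalSubgroup F := by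
      refine Subgroup.mem_inf.2 ⟨mul_mem (inv_mem u'.2.1) u.2.1, ?_⟩
      rw [h1]
      exact mul_mem h'.2.1 (inv_mem h.2.1)
    rw [b.hTri.UH, Subgroup.mem_bot] at h2
    have h3 : (u : GL D.Idx F) = u' := (inv_mul_eq_one.1 h2).symm
    have h4 : (h : GL D.Idx F) = h' := by
      rw [h3] at he'
      exact mul_left_cancel he'
    exact Prod.ext (Subtype.ext h3) (Subtype.ext h4)
  · rintro ⟨g, hg, hg1⟩
    obtain ⟨u, hu, h, hh, rfl⟩ := (b.hA.mem_borel_iff b.hT).1 hg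
    have hfix := (X.fixBN.G1_fix hg1).2
    rw [X.hσ.mul _ (b.hA.pos_le_group hu) _ (b.hA.diag_le_group hh)] at hfix
    have h1 : u⁻¹ * σ u = h * (σ h)⁻¹ := by
      calc u⁻¹ * σ u = u⁻¹ * (σ u * σ h) * (σ h)⁻¹ := by group
        _ = h * (σ h)⁻¹ := by rw [hfix]; group
    have h2 : u⁻¹ * σ u ∈ D.posUnipotent F ⊓ D.diagonalSubgroup F := by
      refine Subgroup.mem_inf.2 ⟨mul_mem (inv_mem hu) (X.hσ.map_pos b u hu), ?_⟩
      rw [h1]
      exact mul_mem hh (inv_mem (X.hσ.map_diag b h hh))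
    rw [b.hTri.UH, Subgroup.mem_bot] at h2
    have h3 : σ u = u := (inv_mul_eq_one.1 h2).symm
    have hu1 : u ∈ G1 := X.fixBN.U_fix u hu ⟨b.hA.pos_le_group hu, h3⟩
    have hh1 : h ∈ G1 := by
      have : h = u⁻¹ * (u * h) := by group
      rw [this]
      exact mul_mem (inv_mem hu1) hg1
    exact ⟨(⟨u, hu, hu1⟩, ⟨h, hh, hh1⟩), rfl⟩

/-- `|U¹|` from a reduced word of the longest element -/
theorem card_U1 [Finite F] (a : List ℕ → ℕ)
    (ha : ∀ ω ∈ orbs, Nat.card ↥(Umin D F (b.hA.nword ω) ⊓ G1) = a ω)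
    (L : List (List ℕ)) (hL : ∀ ω ∈ L, ω ∈ orbs) (hred : RedW D L.flatten)
    (hall : ∀ r < D.nroots, D.IsPosRoot r → D.IsNegRoot (wact D L.flatten r)) :
    Nat.card ↥(D.posUnipotent F ⊓ G1) = (L.map a).prod := by
  rw [← X.card_Umin_word a ha L hL hred, Umin_eq_pos b (X.flatten_rank hL) hall]

end TwSetup

end Cfsg.Agent.Lib.Helper45
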