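import Mathlib

set_option autoImplicit false

namespace Cfsg.Agent.Lib.Helper45

open Matrix

variable {ι F : Type*} [DecidableEq ι] [Fintype ι]

theorem tv_mulVec {R : Type*} [CommRing R] (i j : ι) (c : R) (v : ι → R) :
    (Matrix.transvection i j c) *ᵥ v = Function.update v i (v i + c * v j) := by
  ext x
  by_cases hx : x = i
  · subst hx
    simp [Matrix.transvection, Matrix.add_mulVec, Matrix.single_mulVec_eq]
  · simp [Matrix.transvection, Matrix.add_mulVec, Matrix.single_mulVec_eq, hx]

theorem sl_ext_mulVec {R : Type*} [CommRing R] {A B : Matrix.SpecialLinearGroup ι R}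
    (h : ∀ v : ι → R, (A : Matrix ι ι R) *ᵥ v = (B : Matrix ι ι R) *ᵥ v) : A = B := by
  apply Subtype.ext
  apply Matrix.ext_of_mulVec_single
  intro j
  exact h _

theorem T_mulVec {R : Type*} [CommRing R] {i j : ι} (hij : i ≠ j) (c : R) (v : ι → R) :
    ((Matrix.SpecialLinearGroup.transvection hij c : Matrix.SpecialLinearGroup ι R) : Matrix ι ι R) *ᵥ v
      = Function.update v i (v i + c * v j) := tv_mulVec i j c v

theorem T_comm {R : Type*} [CommRing R] {i j k : ι} (hij : i ≠ j) (hjk : j ≠ k) (hik : i ≠ k) (a b : R) :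
    Matrix.SpecialLinearGroup.transvection hij a * Matrix.SpecialLinearGroup.transvection hjk b *
      Matrix.SpecialLinearGroup.transvection hij (-a) * Matrix.SpecialLinearGroup.transvection hjk (-b) =
    Matrix.SpecialLinearGroup.transvection hik (a * b) := by
  apply sl_ext_mulVec
  intro v
  simp only [Matrix.SpecialLinearGroup.coe_mul, ← Matrix.mulVec_mulVec, T_mulVec]
  ext x
  by_cases hxi : x = i
  · subst hxi
    simp [hij, hij.symm, hjk.symm, hik.symm]
    ring
  · by_cases hxj : x = j
    · subst hxj
      simp [hij, hij.symm, hjk.symm, hik.symm]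
    · simp [Function.update_apply, hxi, hxj]

theorem diag2n_decomp [Field F] {i j : ι} (hij : i ≠ j) (a : F) (ha : a ≠ 0) :
    Matrix.SpecialLinearGroup.diag2n hij a ha =
      Matrix.SpecialLinearGroup.transvection hij a *
      Matrix.SpecialLinearGroup.transvection hij.symm (-a⁻¹) *
      Matrix.SpecialLinearGroup.transvection hij a *
      Matrix.SpecialLinearGroup.transvection hij (-1) *
      Matrix.SpecialLinearGroup.transvection hij.symm 1 *
      Matrix.SpecialLinearGroup.transvection hij (-1) := by
  apply sl_ext_mulVec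
  intro v
  simp only [Matrix.SpecialLinearGroup.coe_mul, ← Matrix.mulVec_mulVec, T_mulVec,
    Matrix.SpecialLinearGroup.diag2n_coe]
  ext x
  rw [Matrix.mulVec_diagonal]
  by_cases hxi : x = i
  · subst hxi
    simp [hij, hij.symm]
    field_simp
    ring
  · by_cases hxj : x = j
    · subst hxj
      simp [hij, hij.symm]
      field_simp
      ring
    · simp [Function.update_apply, hxi, hxj]

/-- A subgroup of `SL` over a field containing all elementary transvections is everything. -/
theorem eq_top_of_transvections [Field F] [Nontrivial ι] (H : Subgroup (Matrix.SpecialLinearGroup ι F))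
    (h : ∀ (i j : ι) (hij : i ≠ j) (c : F), Matrix.SpecialLinearGroup.transvection hij c ∈ H) : H = ⊤ := by
  rw [Subgroup.eq_top_iff']
  intro M
  refine Matrix.SpecialLinearGroup.diagonal_transvection_induction' (fun g => g ∈ H) M ?_ h
    (fun A B hA hB => H.mul_mem hA hB)
  intro i j hij c hc
  rw [diag2n_decomp hij c hc]
  exact H.mul_mem (H.mul_mem (H.mul_mem (H.mul_mem (H.mul_mem (h _ _ _ _) (h _ _ _ _)) (h _ _ _ _))
    (h _ _ _ _)) (h _ _ _ _)) (h _ _ _ _)

/-- conjugating an elementary transvection by a monomial matrix -/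
theorem conj_T {R : Type*} [CommRing R] (w : Matrix.SpecialLinearGroup ι R) (ε : ι → R) (σ : ι → ι)
    (hσ : Function.Injective σ)
    (hwv : ∀ (v : ι → R) (x : ι), ((w : Matrix ι ι R) *ᵥ v) x = ε x * v (σ x))
    {i j : ι} (hij : i ≠ j) (c c' : R) (h : ε i * c' = c * ε j) :
    w * Matrix.SpecialLinearGroup.transvection (hσ.ne hij) c' =
      Matrix.SpecialLinearGroup.transvection hij c * w := by
  apply sl_ext_mulVec
  intro v
  simp only [Matrix.SpecialLinearGroup.coe_mul, ← Matrix.mulVec_mulVec, T_mulVec]
  ext x
  rw [hwv]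
  by_cases hx : x = i
  · subst hx
    simp only [Function.update_self, hwv]
    linear_combination (v (σ j)) * h
  · rw [Function.update_of_ne hx, Function.update_of_ne (hσ.ne hx), hwv]

theorem cyc_mulVec {K : Type*} [Field K] (n : ℕ) (w : Matrix (Fin (n + 1)) (Fin (n + 1)) K)
    (hw : w = Matrix.of (fun i j => if j.val = i.val + 1 then 1 else
      if i.val = n ∧ j.val = 0 then (-1) ^ n else 0))
    (v : Fin (n + 1) → K) (x : Fin (n + 1)) :
    (w *ᵥ v) x = (if x.val = n then (-1) ^ n else 1) * v (x + 1) := by
  subst hw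
  rw [Matrix.mulVec, dotProduct, Finset.sum_eq_single (x + 1)]
  · have h1 := Fin.val_add_one x
    by_cases hx : x.val = n
    · have hx' : x = Fin.last n := Fin.ext hx
      rw [if_pos hx'] at h1
      have h1' : x + 1 = 0 := Fin.ext h1
      simp [hx, h1']
    · have hx' : x ≠ Fin.last n := fun h => hx (by rw [h]; rfl)
      rw [if_neg hx'] at h1
      simp [hx, h1]
  · intro b _ hb
    have h1 := Fin.val_add_one x
    have hb' : b.val ≠ (x + 1).val := fun h => hb (Fin.ext h)
    by_cases hx : x.val = n
    · have hx' : x = Fin.last n := Fin.ext hx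
      rw [if_pos hx'] at h1
      have h2 : b.val ≠ x.val + 1 := by have := b.2; omega
      have h3 : b ≠ 0 := fun h => hb' (by rw [h, h1]; rfl)
      simp [h2, h3]
    · have hx' : x ≠ Fin.last n := fun h => hx (by rw [h]; rfl)
      rw [if_neg hx'] at h1
      have h2 : b.val ≠ x.val + 1 := by omega
      simp [h2, hx]
  · intro h
    exact absurd (Finset.mem_univ _) h

/-- If a subgroup of `SL_{n+1}` contains the cyclic monomial matrix and the root subgroup `X_{01}`
it is everything. -/
theorem eq_top_of_cyc {K : Type*} [Field K] (n : ℕ) (h01 : (0 : Fin (n + 1)) ≠ 1)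
    (H : Subgroup (Matrix.SpecialLinearGroup (Fin (n + 1)) K))
    (w : Matrix.SpecialLinearGroup (Fin (n + 1)) K)
    (hw : (w : Matrix (Fin (n + 1)) (Fin (n + 1)) K) =
      Matrix.of (fun i j => if j.val = i.val + 1 then 1 else
        if i.val = n ∧ j.val = 0 then (-1) ^ n else 0))
    (hwH : w ∈ H) (hX : ∀ c : K, Matrix.SpecialLinearGroup.transvection h01 c ∈ H) : H = ⊤ := by
  have hnt : Nontrivial (Fin (n + 1)) := ⟨⟨0, 1, h01⟩⟩
  set ε : Fin (n + 1) → K := fun x => if x.val = n then (-1) ^ n else 1 with hε
  have hε0 : ∀ x, ε x ≠ 0 := by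
    intro x
    simp only [hε]
    split_ifs <;> simp
  have hσ : Function.Injective (fun x : Fin (n + 1) => x + 1) := add_left_injective 1
  have hwv := cyc_mulVec n (w : Matrix (Fin (n + 1)) (Fin (n + 1)) K) hw
  let P : Fin (n + 1) → Fin (n + 1) → Prop := fun i j =>
    ∀ (hij : i ≠ j) (c : K), Matrix.SpecialLinearGroup.transvection hij c ∈ H
  have step1 : ∀ i j, P i j → P (i + 1) (j + 1) := by
    intro i j hP hij c'
    have hij' : i ≠ j := fun h => hij (by rw [h])
    have key := conj_T w ε (fun x => x + 1) hσ hwv hij' (ε i * c' * (ε j)⁻¹) c'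
      (by field_simp [hε0 j])
    have h2 : Matrix.SpecialLinearGroup.transvection hij c' =
        w⁻¹ * (Matrix.SpecialLinearGroup.transvection hij' (ε i * c' * (ε j)⁻¹) * w) := by
      rw [← key]; group
    rw [h2]
    exact H.mul_mem (H.inv_mem hwH) (H.mul_mem (hP hij' _) hwH)
  have step2 : ∀ a : Fin (n + 1), P a (a + 1) := by
    intro a
    induction a using Fin.induction with
    | zero =>
      intro hij c
      have : Matrix.SpecialLinearGroup.transvection hij c =
        Matrix.SpecialLinearGroup.transvection h01 c := by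
        apply Subtype.ext
        simp [Matrix.SpecialLinearGroup.transvection]
      rw [this]
      exact hX c
    | succ i ih =>
      have := step1 _ _ ih
      rwa [Fin.coeSucc_eq_succ] at this
  have hne1 : ∀ j : Fin (n + 1), j ≠ j + 1 := by
    intro j h
    apply h01
    have : j + 0 = j + 1 := by rw [add_zero]; exact h
    exact add_left_cancel this
  have step3 : ∀ d i : Fin (n + 1), P i (i + d) := by
    intro d
    induction d using Fin.induction with
    | zero =>
      intro i hij
      exact absurd (by simp) hij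
    | succ e ih =>
      intro i
      rw [← Fin.coeSucc_eq_succ, ← add_assoc]
      by_cases hj : i + Fin.castSucc e = i
      · rw [hj]
        exact step2 i
      · intro hik c
        have hij : i ≠ i + Fin.castSucc e := fun h => hj h.symm
        rw [← mul_one c, ← T_comm hij (hne1 _) hik c 1]
        exact H.mul_mem (H.mul_mem (H.mul_mem (ih i hij _) (step2 _ _ _)) (ih i hij _)) (step2 _ _ _)
  apply eq_top_of_transvections
  intro i j hij c
  have h := step3 (j - i) i
  rw [add_sub_cancel] at h
  exact h hij c

end Cfsg.Agent.Lib.Helper45
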