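import Cfsg.Agent.Lib.Helper45.AutAbs2

/-!
# Automorphisms of groups with a split (B,N)-pair whose fundamental root subgroups are parametrised by
  (possibly different) subfields of one field: the abstract core for the twisted groups
-/

set_option autoImplicit false

namespace Cfsg.Agent.Lib.Helper45.AutAbs

variable {G : Type*} [Group G] {I : Type*}

theorem Mp.card_eq {θ : G ≃* G} {K K' : Subgroup G} (h : Mp θ K K') : Nat.card K = Nat.card K' := by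
  apply Nat.card_congr
  refine ⟨fun k => ⟨θ k, h.mem k.2⟩, fun k => ⟨θ.symm k, h.symm.mem k.2⟩, fun k => ?_, fun k => ?_⟩
  · apply Subtype.ext; simp
  · apply Subtype.ext; simp

theorem Mp.comm_iff {θ : G ≃* G} {K K' L L' : Subgroup G} (h : Mp θ K K') (h' : Mp θ L L') :
    (∀ a ∈ K, ∀ b ∈ L, a * b = b * a) ↔ ∀ a ∈ K', ∀ b ∈ L', a * b = b * a := by
  constructor
  · intro hc a ha b hb
    obtain ⟨a', ha', rfl⟩ := h.exists_preimage ha
    obtain ⟨b', hb', rfl⟩ := h'.exists_preimage hb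
    rw [← map_mul, ← map_mul, hc a' ha' b' hb']
  · intro hc a ha b hb
    apply θ.injective
    rw [map_mul, map_mul]
    exact hc _ (h.mem ha) _ (h'.mem hb)

/-! ### the subgroup level -/

structure PSys (Xp Xm : I → Subgroup G) (nn : I → G) (U V B N : Subgroup G) (P : I → Subgroup G)
    (n0 : G) (ι : I → I) : Prop where
  U_le : U ≤ B
  BV : ∀ g, g ∈ B → g ∈ V → g = 1
  hSyl : ∀ θ : G ≃* G, ∃ g : G, Mp (θ.trans (cj g)) U U
  hBU : ∀ b ∈ B, Mp (cj b) U U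
  hNU : ∀ g, Mp (cj g) U U → g ∈ B
  bruhat : ∀ g : G, ∃ b ∈ B, ∃ n ∈ N, ∃ b' ∈ B, g = b * n * b'
  hn0 : Mp (cj n0) U V
  hn0' : Mp (cj n0) V U
  hopp : ∀ n ∈ N, (∀ u ∈ U, n * u * n⁻¹ ∈ U → u = 1) → Mp (cj n) U V
  hBP : ∀ i, B ≤ P i
  hnP : ∀ i, nn i ∈ P i
  hnB : ∀ i, nn i ∉ B
  hP : ∀ i, ∀ g ∈ P i, g ∈ B ∨ ∃ b ∈ B, ∃ b' ∈ B, g = b * nn i * b'
  hover : ∀ Q : Subgroup G, B ≤ Q → ¬ Q ≤ B → ∃ j, nn j ∈ Q
  hPV : ∀ i, P i ⊓ V = Xm i
  hn0X : ∀ i, Mp (cj n0) (Xm i) (Xp (ι i))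
  ι_surj : Function.Surjective ι
  comm_pm : ∀ i j, i ≠ j → ∀ a ∈ Xp i, ∀ b ∈ Xm j, a * b = b * a
  ncomm_pm : ∀ i, ∃ a ∈ Xp i, ∃ b ∈ Xm i, a * b ≠ b * a

namespace PSys

variable {Xp Xm : I → Subgroup G} {nn : I → G} {U V B N : Subgroup G} {P : I → Subgroup G}
  {n0 : G} {ι : I → I} (S : PSys Xp Xm nn U V B N P n0 ι)
include S

theorem mp_B {θ : G ≃* G} (hU : Mp θ U U) : Mp θ B B := by
  intro b
  constructor
  · intro hb
    have h1 := mp_cj_map hU.symm hU.symm (S.hBU _ hb)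
    rw [MulEquiv.symm_apply_apply] at h1
    exact S.hNU _ h1
  · intro hb
    exact S.hNU _ (mp_cj_map hU hU (S.hBU _ hb))

theorem exists_neg {θ : G ≃* G} (hU : Mp θ U U) (hV : Mp θ V V) (i : I) :
    ∃ j, Mp θ (Xm i) (Xm j) := by
  obtain ⟨j, hj⟩ := perm_parabolic S.hBP S.hnP S.hnB S.hP S.hover (S.mp_B hU) i
  refine ⟨j, ?_⟩
  rw [← S.hPV i, ← S.hPV j]
  exact hj.inf hV

theorem exists_pos {θ : G ≃* G} (hU : Mp θ U U) (hV : Mp θ V V) (i : I) :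
    ∃ j, Mp θ (Xp i) (Xp j) := by
  obtain ⟨k, rfl⟩ := S.ι_surj i
  have hU' : Mp ((cj n0).trans (θ.trans (cj n0⁻¹))) U U :=
    S.hn0.trans (hV.trans (mp_cj_inv S.hn0))
  have hV' : Mp ((cj n0).trans (θ.trans (cj n0⁻¹))) V V :=
    S.hn0'.trans (hU.trans (mp_cj_inv S.hn0'))
  obtain ⟨j, hj⟩ := S.exists_neg hU' hV' k
  refine ⟨ι j, fun g => ?_⟩
  have h1 := S.hn0X j (n0⁻¹ * θ g * n0)
  have h2 := hj (n0⁻¹ * g * n0)
  have h3 := S.hn0X k (n0⁻¹ * g * n0)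
  simp only [cj_apply, MulEquiv.trans_apply] at h1 h2 h3
  have e1 : n0 * (n0⁻¹ * θ g * n0) * n0⁻¹ = θ g := by group
  have e2 : n0 * (n0⁻¹ * g * n0) * n0⁻¹ = g := by group
  rw [e1] at h1
  rw [e2] at h2 h3
  rw [inv_inv] at h2
  rw [h1, h2, h3]

theorem Xm_inj {i j : I} (h : Xm i = Xm j) : i = j := by
  by_contra hij
  obtain ⟨a, ha, b, hb, hab⟩ := S.ncomm_pm i
  exact hab (S.comm_pm i j hij a ha b (h ▸ hb))

/-- an automorphism fixing `U` and `V` permutes the fundamental root subgroups -/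
theorem exists_perm {θ : G ≃* G} (hU : Mp θ U U) (hV : Mp θ V V) :
    ∃ ρ : Equiv.Perm I, ∀ i, Mp θ (Xp i) (Xp (ρ i)) ∧ Mp θ (Xm i) (Xm (ρ i)) := by
  choose ρ₁ h₁ using S.exists_neg hU hV
  choose ρ₂ h₂ using S.exists_pos hU hV
  choose ρ' h' using S.exists_neg hU.symm hV.symm
  have h12 : ∀ i, ρ₂ i = ρ₁ i := by
    intro i
    by_contra hne
    obtain ⟨a, ha, b, hb, hab⟩ := S.ncomm_pm i
    apply hab
    have := S.comm_pm _ _ hne _ ((h₂ i).mem ha) _ ((h₁ i).mem hb)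
    rw [← map_mul, ← map_mul] at this
    exact θ.injective this
  have hinj : Function.Injective ρ₁ := by
    intro i j hij
    have h1 := h₁ i
    rw [hij] at h1
    exact S.Xm_inj (h1.unique_left (h₁ j))
  have hsurj : Function.Surjective ρ₁ := by
    intro i
    refine ⟨ρ' i, ?_⟩
    have h1 : Mp θ (Xm (ρ' i)) (Xm i) := by
      have := (h' i).symm
      rwa [MulEquiv.symm_symm] at this
    exact S.Xm_inj ((h₁ (ρ' i)).unique h1)
  refine ⟨Equiv.ofBijective ρ₁ ⟨hinj, hsurj⟩, fun i => ⟨?_, h₁ i⟩⟩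
  have := h₂ i
  rw [h12] at this
  exact this

/-- every automorphism is, up to an inner one, as in `exists_perm` -/
theorem exists_normal (θ : G ≃* G) : ∃ (g : G) (ρ : Equiv.Perm I),
    Mp (θ.trans (cj g)) U U ∧ Mp (θ.trans (cj g)) V V ∧
    ∀ i, Mp (θ.trans (cj g)) (Xp i) (Xp (ρ i)) ∧ Mp (θ.trans (cj g)) (Xm i) (Xm (ρ i)) := by
  obtain ⟨g, hU, hV⟩ := normalize S.hSyl S.hBU S.bruhat S.hn0
    (fun g hg hg' => S.BV g (S.U_le hg) hg') S.hopp θ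
  obtain ⟨ρ, hρ⟩ := S.exists_perm hU hV
  exact ⟨g, ρ, hU, hV, hρ⟩

end PSys

/-! ### the parametrised level -/

variable {K : Type*} [Field K]

/-- `n_i(c)` -/
def nT (xp xm : I → K → G) (i : I) (c : K) : G := xp i c * xm i (-c⁻¹) * xp i c

/-- `h_i(c)` -/
def hT (xp xm : I → K → G) (i : I) (c : K) : G := nT xp xm i c * nT xp xm i (-1)

structure FSys (xp xm : I → K → G) (S : I → Subfield K) (Xp Xm : I → Subgroup G) (V B : Subgroup G) :
    Prop where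
  xp_add : ∀ i, ∀ t ∈ S i, ∀ u ∈ S i, xp i (t + u) = xp i t * xp i u
  xm_add : ∀ i, ∀ t ∈ S i, ∀ u ∈ S i, xm i (t + u) = xm i t * xm i u
  xp_inj : ∀ i, ∀ t ∈ S i, xp i t = 1 → t = 0
  xm_inj : ∀ i, ∀ t ∈ S i, xm i t = 1 → t = 0
  mem_Xp : ∀ i g, g ∈ Xp i ↔ ∃ t ∈ S i, g = xp i t
  mem_Xm : ∀ i g, g ∈ Xm i ↔ ∃ t ∈ S i, g = xm i t
  xp_B : ∀ i, ∀ t ∈ S i, xp i t ∈ B
  xm_V : ∀ i, ∀ t ∈ S i, xm i t ∈ V
  BV : ∀ g, g ∈ B → g ∈ V → g = 1
  acts : ∀ i, ∀ c ∈ S i, c ≠ 0 → Mp (cj (nT xp xm i c)) (Xp i) (Xm i)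
  hVB : ∀ i, ∀ c ∈ S i, c ≠ 0 → ∀ v ∈ V, ∀ b ∈ B, nT xp xm i c ≠ v * b
  n_one : ∀ i, ∃ ε : K, (ε = 1 ∨ ε = -1) ∧ ∀ t ∈ S i,
    nT xp xm i 1 * xp i t * (nT xp xm i 1)⁻¹ = xm i (ε * t)
  h_self : ∀ i, ∀ c ∈ S i, c ≠ 0 → ∀ u ∈ S i,
    hT xp xm i c * xp i u * (hT xp xm i c)⁻¹ = xp i (c ^ 2 * u)

namespace FSys

variable {xp xm : I → K → G} {S : I → Subfield K} {Xp Xm : I → Subgroup G} {V B : Subgroup G}
  (Y : FSys xp xm S Xp Xm V B)
include Y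

theorem xp_zero (i : I) : xp i 0 = 1 := by
  have := Y.xp_add i 0 (zero_mem _) 0 (zero_mem _)
  rw [add_zero] at this
  exact (mul_eq_left.1 this.symm)

theorem xm_zero (i : I) : xm i 0 = 1 := by
  have := Y.xm_add i 0 (zero_mem _) 0 (zero_mem _)
  rw [add_zero] at this
  exact (mul_eq_left.1 this.symm)

theorem xp_neg (i : I) {t : K} (ht : t ∈ S i) : xp i (-t) = (xp i t)⁻¹ := by
  rw [eq_inv_iff_mul_eq_one, ← Y.xp_add i _ (neg_mem ht) _ ht, neg_add_cancel, Y.xp_zero]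

theorem xm_neg (i : I) {t : K} (ht : t ∈ S i) : xm i (-t) = (xm i t)⁻¹ := by
  rw [eq_inv_iff_mul_eq_one, ← Y.xm_add i _ (neg_mem ht) _ ht, neg_add_cancel, Y.xm_zero]

theorem xp_injective (i : I) {t u : K} (ht : t ∈ S i) (hu : u ∈ S i) (h : xp i t = xp i u) : t = u := by
  have : xp i (t + -u) = 1 := by rw [Y.xp_add i _ ht _ (neg_mem hu), Y.xp_neg i hu, h, mul_inv_cancel]
  have := Y.xp_inj i _ (add_mem ht (neg_mem hu)) this
  exact eq_neg_of_add_eq_zero_left this |>.trans (neg_neg u)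

theorem xm_injective (i : I) {t u : K} (ht : t ∈ S i) (hu : u ∈ S i) (h : xm i t = xm i u) : t = u := by
  have : xm i (t + -u) = 1 := by rw [Y.xm_add i _ ht _ (neg_mem hu), Y.xm_neg i hu, h, mul_inv_cancel]
  have := Y.xm_inj i _ (add_mem ht (neg_mem hu)) this
  exact eq_neg_of_add_eq_zero_left this |>.trans (neg_neg u)

theorem xp_mem (i : I) {t : K} (ht : t ∈ S i) : xp i t ∈ Xp i := (Y.mem_Xp i _).2 ⟨t, ht, rfl⟩

theorem xm_mem (i : I) {t : K} (ht : t ∈ S i) : xm i t ∈ Xm i := (Y.mem_Xm i _).2 ⟨t, ht, rfl⟩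

/-- the rank one analysis -/
theorem map_nT {θ : G ≃* G} {i j : I} (hp : Mp θ (Xp i) (Xp j)) (hm : Mp θ (Xm i) (Xm j))
    {t a b : K} (ht : t ∈ S i) (ht0 : t ≠ 0) (ha : a ∈ S j) (hb : b ∈ S j)
    (hf : θ (xp i t) = xp j a) (hg : θ (xm i (-t⁻¹)) = xm j b) :
    a ≠ 0 ∧ b = -a⁻¹ ∧ θ (nT xp xm i t) = nT xp xm j a := by
  have hθn : θ (nT xp xm i t) = xp j a * xm j b * xp j a := by
    rw [nT, map_mul, map_mul, hf, hg]
  have key : (⟨b, hb⟩ : S j) ≠ 0 ∧ (⟨a, ha⟩ : S j) = -(⟨b, hb⟩ : S j)⁻¹ := by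
    apply rank_one (F := S j) (xp := fun s : S j => xp j s) (xm := fun s : S j => xm j s) (V := V) (B := B)
    · intro s u
      exact Y.xp_add j _ s.2 _ u.2
    · intro s
      exact Y.xp_B j _ s.2
    · exact Y.BV
    · exact Y.xm_zero j
    · intro s hs
      exact Subtype.ext (Y.xp_inj j _ s.2 hs)
    · intro c hc s
      have hc' : (c : K) ≠ 0 := fun h => hc (Subtype.ext h)
      have h1 := Y.acts j c c.2 hc'
      obtain ⟨k, hk, e⟩ := h1.exists_preimage (Y.xm_mem j s.2)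
      obtain ⟨s', hs', rfl⟩ := (Y.mem_Xp _ _).1 hk
      exact ⟨⟨s', hs'⟩, e⟩
    · intro c hc
      have hc' : (c : K) ≠ 0 := fun h => hc (Subtype.ext h)
      exact Y.hVB j c c.2 hc'
    · intro s
      show (xp j a * xm j b * xp j a) * xp j s * (xp j a * xm j b * xp j a)⁻¹ ∈ V
      rw [← hθn]
      obtain ⟨k, hk, e⟩ := hp.exists_preimage (Y.xp_mem j s.2)
      rw [← e, ← map_mul, ← map_inv, ← map_mul]
      have h1 := Y.acts i t ht ht0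
      obtain ⟨u, hu, e2⟩ := (Y.mem_Xm _ _).1 (hm.mem (h1.mem hk))
      have e3 : θ (nT xp xm i t * k * (nT xp xm i t)⁻¹) = xm j u := e2
      rw [e3]
      exact Y.xm_V j u hu
  obtain ⟨k1, k2⟩ := key
  have k1' : b ≠ 0 := fun h => k1 (Subtype.ext h)
  have k2' : a = -b⁻¹ := congrArg Subtype.val k2
  have h1 : b = -a⁻¹ := by
    rw [k2', inv_neg, inv_inv, neg_neg]
  have h2 : a ≠ 0 := by
    rw [k2']
    exact neg_ne_zero.2 (inv_ne_zero k1')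
  refine ⟨h2, h1, ?_⟩
  rw [hθn, h1, nT]

theorem exists_scal {θ : G ≃* G} (hθ : ∀ i, Mp θ (Xp i) (Xp i)) :
    ∃ c : I → K, ∀ i, c i ∈ S i ∧ c i ≠ 0 ∧ θ (xp i 1) = xp i (c i) := by
  have : ∀ i, ∃ c, c ∈ S i ∧ c ≠ 0 ∧ θ (xp i 1) = xp i c := by
    intro i
    obtain ⟨c, hc, e⟩ := (Y.mem_Xp _ _).1 ((hθ i).mem (Y.xp_mem i (one_mem _)))
    refine ⟨c, hc, ?_, e⟩
    rintro rfl
    rw [Y.xp_zero] at e
    have h1 : xp i 1 = 1 := by
      apply θ.injective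
      rw [e, map_one]
    exact one_ne_zero (Y.xp_inj i 1 (one_mem _) h1)
  choose c hc using this
  exact ⟨c, hc⟩

omit [Group G] Y in
/-- an additive map with `f (c² u) = f(c)² f(u)` is multiplicative -/
theorem mul_of_sq {T : Subfield K} {f : K → K}
    (fadd : ∀ t ∈ T, ∀ u ∈ T, f (t + u) = f t + f u) (f0 : f 0 = 0) (f1 : f 1 = 1)
    (hsq : ∀ c ∈ T, c ≠ 0 → ∀ u ∈ T, f (c ^ 2 * u) = f c ^ 2 * f u)
    (sq : (2 : K) = 0 → ∀ c ∈ T, ∃ d ∈ T, c = d ^ 2) :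
    ∀ c ∈ T, ∀ u ∈ T, f (c * u) = f c * f u := by
  intro c hc u hu
  by_cases hc0 : c = 0
  · rw [hc0, zero_mul, f0, zero_mul]
  by_cases h2 : (2 : K) = 0
  · obtain ⟨d, hd, rfl⟩ := sq h2 c hc
    have hd0 : d ≠ 0 := by
      rintro rfl
      exact hc0 (by simp)
    have h1 := hsq d hd hd0 1 (one_mem _)
    rw [mul_one, f1, mul_one] at h1
    rw [hsq d hd hd0 u hu, h1]
  · by_cases hc1 : c + 1 = 0
    · have hcm : c = -1 := eq_neg_of_add_eq_zero_left hc1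
      have e1 : f (c * u) + f u = 0 := by
        rw [← fadd _ (mul_mem hc hu) _ hu, hcm]
        simp [f0]
      have e2 : f c + 1 = 0 := by
        rw [← f1, ← fadd _ hc _ (one_mem _), hc1, f0]
      have e3 : f c = -1 := eq_neg_of_add_eq_zero_left e2
      rw [e3, neg_one_mul]
      exact eq_neg_of_add_eq_zero_left e1
    · have h1 := hsq (c + 1) (add_mem hc (one_mem _)) hc1 u hu
      have e1 : (c + 1) ^ 2 * u = c ^ 2 * u + (c * u + c * u) + u := by ring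
      have hcu := mul_mem hc hu
      have hccu : c ^ 2 * u ∈ T := mul_mem (pow_mem hc 2) hu
      rw [e1, fadd _ (add_mem hccu (add_mem hcu hcu)) _ hu, fadd _ hccu _ (add_mem hcu hcu),
        fadd _ hcu _ hcu, hsq c hc hc0 u hu, fadd _ hc _ (one_mem _), f1] at h1
      have e2 : 2 * f (c * u) = 2 * (f c * f u) := by linear_combination h1
      exact mul_left_cancel₀ h2 e2

theorem exists_field
    (sq : ∀ i, (2 : K) = 0 → ∀ c ∈ S i, ∃ d ∈ S i, c = d ^ 2)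
    (i₀ : I) (htop : S i₀ = ⊤) (Adj : I → I → Prop)
    (hAdj : ∀ i j, Adj i j → S i ≤ S j ∧ ∀ c ∈ S i, c ≠ 0 → ∀ u ∈ S j,
      hT xp xm i c * xp j u * (hT xp xm i c)⁻¹ = xp j (c⁻¹ * u))
    (conn : ∀ Pr : I → Prop, Pr i₀ → (∀ i j, Adj i j → Pr j → Pr i) → ∀ i, Pr i)
    {θ : G ≃* G} (hθ : ∀ i, Mp θ (Xp i) (Xp i) ∧ Mp θ (Xm i) (Xm i))
    (h1 : ∀ i, θ (xp i 1) = xp i 1) :
    ∃ σ : K ≃+* K, ∀ i, ∀ t ∈ S i, σ t ∈ S i ∧ θ (xp i t) = xp i (σ t) ∧ θ (xm i t) = xm i (σ t) := by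
  have exf : ∀ i (t : K), ∃ u, t ∈ S i → (u ∈ S i ∧ θ (xp i t) = xp i u) := by
    intro i t
    by_cases ht : t ∈ S i
    · obtain ⟨u, hu, e⟩ := (Y.mem_Xp _ _).1 ((hθ i).1.mem (Y.xp_mem i ht))
      exact ⟨u, fun _ => ⟨hu, e⟩⟩
    · exact ⟨0, fun h => absurd h ht⟩
  have exg : ∀ i (t : K), ∃ u, t ∈ S i → (u ∈ S i ∧ θ (xm i t) = xm i u) := by
    intro i t
    by_cases ht : t ∈ S i
    · obtain ⟨u, hu, e⟩ := (Y.mem_Xm _ _).1 ((hθ i).2.mem (Y.xm_mem i ht))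
      exact ⟨u, fun _ => ⟨hu, e⟩⟩
    · exact ⟨0, fun h => absurd h ht⟩
  choose f hf using exf
  choose g hg using exg
  have fS : ∀ i, ∀ t ∈ S i, f i t ∈ S i := fun i t ht => (hf i t ht).1
  have gS : ∀ i, ∀ t ∈ S i, g i t ∈ S i := fun i t ht => (hg i t ht).1
  have fE : ∀ i, ∀ t ∈ S i, θ (xp i t) = xp i (f i t) := fun i t ht => (hf i t ht).2
  have gE : ∀ i, ∀ t ∈ S i, θ (xm i t) = xm i (g i t) := fun i t ht => (hg i t ht).2
  have f1 : ∀ i, f i 1 = 1 := fun i =>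
    Y.xp_injective i (fS i 1 (one_mem _)) (one_mem _) (by rw [← fE i 1 (one_mem _), h1])
  have fadd : ∀ i, ∀ t ∈ S i, ∀ u ∈ S i, f i (t + u) = f i t + f i u := by
    intro i t ht u hu
    apply Y.xp_injective i (fS i _ (add_mem ht hu)) (add_mem (fS i t ht) (fS i u hu))
    rw [← fE i _ (add_mem ht hu), Y.xp_add i t ht u hu, map_mul, fE i t ht, fE i u hu,
      Y.xp_add i _ (fS i t ht) _ (fS i u hu)]
  have f0 : ∀ i, f i 0 = 0 := by
    intro i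
    apply Y.xp_injective i (fS i _ (zero_mem _)) (zero_mem _)
    rw [← fE i _ (zero_mem _), Y.xp_zero, map_one]
  have fneg : ∀ i, ∀ t ∈ S i, f i (-t) = - f i t := by
    intro i t ht
    apply Y.xp_injective i (fS i _ (neg_mem ht)) (neg_mem (fS i t ht))
    rw [← fE i _ (neg_mem ht), Y.xp_neg i ht, map_inv, fE i t ht, Y.xp_neg i (fS i t ht)]
  have gneg : ∀ i, ∀ t ∈ S i, g i (-t) = - g i t := by
    intro i t ht
    apply Y.xm_injective i (gS i _ (neg_mem ht)) (neg_mem (gS i t ht))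
    rw [← gE i _ (neg_mem ht), Y.xm_neg i ht, map_inv, gE i t ht, Y.xm_neg i (gS i t ht)]
  have key : ∀ i, ∀ t ∈ S i, t ≠ 0 → f i t ≠ 0 ∧ g i (-t⁻¹) = -(f i t)⁻¹ ∧
      θ (nT xp xm i t) = nT xp xm i (f i t) := by
    intro i t ht ht0
    exact Y.map_nT (hθ i).1 (hθ i).2 ht ht0 (fS i t ht) (gS i _ (neg_mem (inv_mem ht))) (fE i t ht)
      (gE i _ (neg_mem (inv_mem ht)))
  have hn1 : ∀ i, θ (nT xp xm i 1) = nT xp xm i 1 := by
    intro i
    rw [(key i 1 (one_mem _) one_ne_zero).2.2, f1]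
  have hnm1 : ∀ i, θ (nT xp xm i (-1)) = nT xp xm i (-1) := by
    intro i
    rw [(key i (-1) (neg_mem (one_mem _)) (neg_ne_zero.2 one_ne_zero)).2.2, fneg i 1 (one_mem _), f1]
  have hh : ∀ i, ∀ c ∈ S i, c ≠ 0 → θ (hT xp xm i c) = hT xp xm i (f i c) := by
    intro i c hc hc0
    rw [hT, map_mul, (key i c hc hc0).2.2, hnm1, hT]
  -- `g = f`
  have hgf : ∀ i, ∀ t ∈ S i, g i t = f i t := by
    intro i t ht
    obtain ⟨ε, hε, hc⟩ := Y.n_one i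
    have hεS : ε ∈ S i := by
      rcases hε with rfl | rfl
      · exact one_mem _
      · exact neg_mem (one_mem _)
    have e1 := congrArg θ (hc t ht)
    rw [map_mul, map_mul, map_inv, hn1, fE i t ht, gE i _ (mul_mem hεS ht), hc _ (fS i t ht)] at e1
    have e2 := Y.xm_injective i (mul_mem hεS (fS i t ht)) (gS i _ (mul_mem hεS ht)) e1
    rcases hε with rfl | rfl
    · simpa using e2.symm
    · rw [neg_one_mul, neg_one_mul, gneg i t ht] at e2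
      exact (neg_injective e2).symm
  -- multiplicativity
  have hsq : ∀ i, ∀ c ∈ S i, c ≠ 0 → ∀ u ∈ S i, f i (c ^ 2 * u) = f i c ^ 2 * f i u := by
    intro i c hc hc0 u hu
    have e1 := congrArg θ (Y.h_self i c hc hc0 u hu)
    rw [map_mul, map_mul, map_inv, hh i c hc hc0, fE i u hu, fE i _ (mul_mem (pow_mem hc 2) hu),
      Y.h_self i _ (fS i c hc) (key i c hc hc0).1 _ (fS i u hu)] at e1
    exact (Y.xp_injective i (mul_mem (pow_mem (fS i c hc) 2) (fS i u hu))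
      (fS i _ (mul_mem (pow_mem hc 2) hu)) e1).symm
  have fmul : ∀ i, ∀ c ∈ S i, ∀ u ∈ S i, f i (c * u) = f i c * f i u := fun i =>
    mul_of_sq (fadd i) (f0 i) (f1 i) (hsq i) (sq i)
  have finv : ∀ i, ∀ c ∈ S i, c ≠ 0 → f i c⁻¹ = (f i c)⁻¹ := by
    intro i c hc hc0
    have := fmul i c hc c⁻¹ (inv_mem hc)
    rw [mul_inv_cancel₀ hc0, f1] at this
    exact eq_inv_of_mul_eq_one_right this.symm
  have hall : ∀ i, ∀ t ∈ S i, f i t = f i₀ t := by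
    apply conn (fun i => ∀ t ∈ S i, f i t = f i₀ t) (fun _ _ => rfl)
    intro i j hij hj c hc
    by_cases hc0 : c = 0
    · rw [hc0, f0, f0]
    obtain ⟨hle, hact⟩ := hAdj i j hij
    have e1 := congrArg θ (hact c hc hc0 1 (one_mem _))
    rw [map_mul, map_mul, map_inv, hh i c hc hc0, h1 j, mul_one, fE j _ (inv_mem (hle hc)),
      hact _ (fS i c hc) (key i c hc hc0).1 1 (one_mem _), mul_one] at e1
    have e2 := Y.xp_injective j (inv_mem (hle (fS i c hc))) (fS j _ (inv_mem (hle hc))) e1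
    rw [finv j c (hle hc) hc0] at e2
    rw [← hj c (hle hc)]
    exact inv_injective e2
  have mtop : ∀ t : K, t ∈ S i₀ := fun t => htop ▸ Subfield.mem_top t
  let φ : K →+* K :=
    { toFun := f i₀
      map_one' := f1 i₀
      map_mul' := fun c u => fmul i₀ c (mtop c) u (mtop u)
      map_zero' := f0 i₀
      map_add' := fun c u => fadd i₀ c (mtop c) u (mtop u) }
  have hbij : Function.Bijective φ := by
    refine ⟨φ.injective, fun u => ?_⟩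
    obtain ⟨k, hk, e⟩ := (hθ i₀).1.exists_preimage (Y.xp_mem i₀ (mtop u))
    obtain ⟨t, ht, rfl⟩ := (Y.mem_Xp _ _).1 hk
    refine ⟨t, Y.xp_injective i₀ (mtop _) (mtop _) ?_⟩
    show xp i₀ (f i₀ t) = _
    rw [← fE i₀ t ht, e]
  refine ⟨RingEquiv.ofBijective φ hbij, fun i t ht => ?_⟩
  have e : (RingEquiv.ofBijective φ hbij) t = f i₀ t := rfl
  rw [e, ← hall i t ht]
  exact ⟨fS i t ht, fE i t ht, by rw [gE i t ht, hgf i t ht]⟩

omit [Group G] Y in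
/-- in a finite field of characteristic two every element of a subfield is a square in it -/
theorem sq_of_finite [Finite K] (T : Subfield K) (h2 : (2 : K) = 0) : ∀ c ∈ T, ∃ d ∈ T, c = d ^ 2 := by
  intro c hc
  have : CharP T 2 := by
    have h2' : (2 : T) = 0 := Subtype.ext h2
    exact CharTwo.of_one_ne_zero_of_two_eq_zero one_ne_zero h2'
  have : Fact (Nat.Prime 2) := ⟨Nat.prime_two⟩
  have hs : Function.Surjective (frobenius T 2) :=
    Finite.injective_iff_surjective.1 (frobenius T 2).injective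
  obtain ⟨d, hd⟩ := hs ⟨c, hc⟩
  refine ⟨d, d.2, ?_⟩
  have := congrArg Subtype.val hd
  simpa [frobenius_def] using this.symm

/-- a "diagonal" automorphism preserves the fundamental root subgroups -/
theorem mp_of_diag {δ : G ≃* G} {c : I → K} (hc : ∀ i, c i ∈ S i ∧ c i ≠ 0)
    (hδ : ∀ i, ∀ t ∈ S i, δ (xp i t) = xp i (c i * t) ∧ δ (xm i t) = xm i ((c i)⁻¹ * t)) (i : I) :
    Mp δ (Xp i) (Xp i) ∧ Mp δ (Xm i) (Xm i) := by
  constructor
  · intro g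
    constructor
    · intro hg
      obtain ⟨u, hu, e⟩ := (Y.mem_Xp _ _).1 hg
      have h1 := (hδ i ((c i)⁻¹ * u) (mul_mem (inv_mem (hc i).1) hu)).1
      rw [mul_inv_cancel_left₀ (hc i).2, ← e] at h1
      rw [← δ.injective h1]
      exact Y.xp_mem i (mul_mem (inv_mem (hc i).1) hu)
    · intro hg
      obtain ⟨u, hu, rfl⟩ := (Y.mem_Xp _ _).1 hg
      rw [(hδ i u hu).1]
      exact Y.xp_mem i (mul_mem (hc i).1 hu)
  · intro g
    constructor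
    · intro hg
      obtain ⟨u, hu, e⟩ := (Y.mem_Xm _ _).1 hg
      have h1 := (hδ i (c i * u) (mul_mem (hc i).1 hu)).2
      rw [inv_mul_cancel_left₀ (hc i).2, ← e] at h1
      rw [← δ.injective h1]
      exact Y.xm_mem i (mul_mem (hc i).1 hu)
    · intro hg
      obtain ⟨u, hu, rfl⟩ := (Y.mem_Xm _ _).1 hg
      rw [(hδ i u hu).2]
      exact Y.xm_mem i (mul_mem (inv_mem (hc i).1) hu)

/-- every automorphism is inner times diagonal times field -/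
theorem exists_std [Finite K] {nn : I → G} {U N : Subgroup G} {P : I → Subgroup G} {n0 : G} {ι : I → I}
    (PS : PSys Xp Xm nn U V B N P n0 ι)
    (rigid : ∀ ρ : Equiv.Perm I, (∀ i, Nat.card (Xp i) = Nat.card (Xp (ρ i))) →
      (∀ i j, (∀ a ∈ Xp i, ∀ b ∈ Xp j, a * b = b * a) ↔ ∀ a ∈ Xp (ρ i), ∀ b ∈ Xp (ρ j), a * b = b * a) →
      ρ = 1)
    (diag : ∀ c : I → K, (∀ i, c i ∈ S i ∧ c i ≠ 0) → ∃ δ : G ≃* G, ∀ i, ∀ t ∈ S i,
      δ (xp i t) = xp i (c i * t) ∧ δ (xm i t) = xm i ((c i)⁻¹ * t))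
    (i₀ : I) (htop : S i₀ = ⊤) (Adj : I → I → Prop)
    (hAdj : ∀ i j, Adj i j → S i ≤ S j ∧ ∀ c ∈ S i, c ≠ 0 → ∀ u ∈ S j,
      hT xp xm i c * xp j u * (hT xp xm i c)⁻¹ = xp j (c⁻¹ * u))
    (conn : ∀ Pr : I → Prop, Pr i₀ → (∀ i j, Adj i j → Pr j → Pr i) → ∀ i, Pr i)
    (θ : G ≃* G) :
    ∃ (g : G) (c : I → K) (σ : K ≃+* K), (∀ i, c i ∈ S i ∧ c i ≠ 0) ∧ ∀ i, ∀ t ∈ S i, σ t ∈ S i ∧
      g * θ (xp i t) * g⁻¹ = xp i (c i * σ t) ∧ g * θ (xm i t) * g⁻¹ = xm i ((c i)⁻¹ * σ t) := by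
  obtain ⟨g, ρ, -, -, hρ⟩ := PS.exists_normal θ
  have hρ1 : ρ = 1 := rigid ρ (fun i => (hρ i).1.card_eq) (fun i j => (hρ i).1.comm_iff (hρ j).1)
  subst hρ1
  set θ₁ := θ.trans (cj g) with hθ₁
  have hρ' : ∀ i, Mp θ₁ (Xp i) (Xp i) ∧ Mp θ₁ (Xm i) (Xm i) := hρ
  obtain ⟨c, hc⟩ := Y.exists_scal (fun i => (hρ' i).1)
  have hc' : ∀ i, c i ∈ S i ∧ c i ≠ 0 := fun i => ⟨(hc i).1, (hc i).2.1⟩
  obtain ⟨δ, hδ⟩ := diag c hc'
  have hδM := Y.mp_of_diag hc' hδ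
  obtain ⟨σ, hσ⟩ := Y.exists_field (fun i => sq_of_finite (S i)) i₀ htop Adj hAdj conn
    (θ := θ₁.trans δ.symm)
    (fun i => ⟨(hρ' i).1.trans (hδM i).1.symm, (hρ' i).2.trans (hδM i).2.symm⟩)
    (fun i => by
      rw [MulEquiv.trans_apply, (hc i).2.2, MulEquiv.symm_apply_eq, (hδ i 1 (one_mem _)).1, mul_one])
  refine ⟨g, c, σ, hc', fun i t ht => ?_⟩
  obtain ⟨h1, h2, h3⟩ := hσ i t ht
  rw [MulEquiv.trans_apply, MulEquiv.symm_apply_eq] at h2 h3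
  refine ⟨h1, ?_, ?_⟩
  · rw [← (hδ i _ h1).1, ← h2]; rfl
  · rw [← (hδ i _ h1).2, ← h3]; rfl

end FSys

end Cfsg.Agent.Lib.Helper45.AutAbs
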