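import Cfsg.Agent.Lib.Helper45.ChevOrder2
import Cfsg.Agent.Lib.Helper22.ChevInst
import Cfsg.Agent.Lib.Helper23.TriAll
import Cfsg.Agent.Lib.Helper23.AddOf
import Cfsg.Agent.S1027

/-!
# The order formula and `N/H ≅ W` for the seven data, given a (B,N)-pair as in S1042
-/

set_option autoImplicit false

namespace Cfsg.Agent.Lib.Helper45

open Cfsg.Lie Matrix Cfsg.Agent.Lib.Helper23 Cfsg.Agent.Lib.Helper8 Cfsg.Agent.Lib.Helper22

universe u

variable {D : ChevalleyDatum} {F : Type u} [Field F]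

theorem tri_of_mem (F : Type*) [Field F]
    (hD : D ∈ [chevG2, chevB2, chevD4, chevF4, chevE6, chevE7, chevE8]) : Tri D F :=
  (addFact_of_mem F hD).tri_of (triDeg_of_mem F hD) (torus_of_mem F hD)

theorem order_of_mem [Fintype F]
    (hD : D ∈ [chevG2, chevB2, chevD4, chevF4, chevE6, chevE7, chevE8])
    (hBN : ∃ P : Cfsg.BNPair ↥(D.group F),
      P.B = (D.borelSubgroup F).subgroupOf (D.group F) ∧
      P.N = (D.monomialSubgroup F).subgroupOf (D.group F) ∧
      P.S = {n : ↥(D.group F) | ∃ i < D.rank,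
        ((n : GL D.Idx F) : Matrix D.Idx D.Idx F) = D.nMat F (D.simple i) 1})
    {n : ℕ} {M : CoxeterMatrix (Fin n)} (hM : CoxFacts D M) {R : ℕ → ℕ} {d : ℕ}
    (hgwt : ∀ {W : Type u} [Group W] (f : Fin n → W), (∀ i, f i * f i = 1) →
      (∀ w, ∃ L, wp f L = w) → ExCond f → (∀ i j, orderOf (f i * f j) = M i j) →
      ∀ q : ℕ, 1 ≤ q → (q - 1) ^ n * gwt f q = R q)
    (hH : d * Nat.card (D.diagonalSubgroup F) = (Fintype.card F - 1) ^ n) :
    d * Nat.card ↥(D.group F) = Fintype.card F ^ (D.nroots / 2) * R (Fintype.card F) := by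
  obtain ⟨P, hPB, hPN, hPS⟩ := hBN
  exact order_formula (addFact_of_mem F hD) (rootFacts_of_mem hD) (nConj_of_mem F hD)
    (torus_of_mem F hD) (tri_of_mem F hD) (commI_of_mem F hD) hPB hPN hPS hM
    (fun f h1 h2 h3 h4 => hgwt f h1 h2 h3 h4 _ Fintype.card_pos)
    (Cfsg.Agent.S1027.result D hD) hH

theorem weyl_of_mem
    (hD : D ∈ [chevG2, chevB2, chevD4, chevF4, chevE6, chevE7, chevE8])
    (hBN : ∃ P : Cfsg.BNPair ↥(D.group F),
      P.B = (D.borelSubgroup F).subgroupOf (D.group F) ∧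
      P.N = (D.monomialSubgroup F).subgroupOf (D.group F) ∧
      P.S = {n : ↥(D.group F) | ∃ i < D.rank,
        ((n : GL D.Idx F) : Matrix D.Idx D.Idx F) = D.nMat F (D.simple i) 1})
    (hBNH : D.borelSubgroup F ⊓ D.monomialSubgroup F = D.diagonalSubgroup F)
    {n : ℕ} {M : CoxeterMatrix (Fin n)} (hM : CoxFacts D M) :
    ∃ φ : ↥(D.monomialSubgroup F) →* M.Group, Function.Surjective φ ∧
      φ.ker = (D.diagonalSubgroup F).subgroupOf (D.monomialSubgroup F) ∧
      ∀ (i : Fin n) (g : ↥(D.monomialSubgroup F)),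
        ((g : GL D.Idx F) : Matrix D.Idx D.Idx F) = D.nMat F (D.simple i) 1 → φ g = M.simple i := by
  obtain ⟨P, hPB, hPN, hPS⟩ := hBN
  exact weyl_hom (addFact_of_mem F hD) (rootFacts_of_mem hD) (nConj_of_mem F hD)
    (torus_of_mem F hD) (tri_of_mem F hD) (commI_of_mem F hD) hPB hPN hPS hM hBNH

end Cfsg.Agent.Lib.Helper45
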