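import Mathlib
import Cfsg.Agent.Lib.Helper45.ReflLenComp
import Cfsg.Agent.Lib.Helper45.CoxE6Card

/-! Poincaré series of the Coxeter group of type E6 (generated certificates). -/

set_option autoImplicit false

namespace Cfsg.Agent.Lib.Helper45

open LData
open Cfsg.Agent.Lib.Helper8 (wp ExCond)

/-- levels of orbit number 0 of type E6 -/
def E6L0 : List (List ℕ) := [[2252052963778],
  [2251247657410],
  [2251241365954],
  [2251241365570, 2251241316802],
  [2251241316418, 2251241316799],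
  [2251241316415, 2251235024962],
  [2251235024959, 2250429718594],
  [2251234975807, 2250429718591, 2147350503490],
  [2250429669439, 2147350503487],
  [2250423377983, 2147350454335],
  [2250423377599, 2147344162879],
  [2147344162495, 2146538856511],
  [2146538856127],
  [2146532564671],
  [2146532515519],
  [2146532515516]]

/-- levels of orbit number 1 of type E6 -/
def E6L1 : List (List ℕ) := [[2286144283073],
  [2286144233921],
  [2286137942465],
  [2286137942081, 2285332636097],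
  [2285332635713],
  [2285326344257],
  [2285326295105],
  [2285326295102]]

/-- levels of orbit number 2 of type E6 -/
def E6L2 : List (List ℕ) := [[2355950117701],
  [2355943826245],
  [2355943825861, 2355138519877],
  [2355138519493],
  [2355132228037],
  [2355132178885]]

/-- levels of orbit number 3 of type E6 -/
def E6L3 : List (List ℕ) := [[2251241332929],
  [2251239235777],
  [2250970800321]]

/-- levels of orbit number 4 of type E6 -/
def E6L4 : List (List ℕ) := [[2286142169538],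
  [2285873734082]]

/-- levels of orbit number 5 of type E6 -/
def E6L5 : List (List ℕ) := [[2390041436996]]

/-- all levels of type E6 -/
def E6levels : List (List (List ℕ)) := [E6L0, E6L1, E6L2, E6L3, E6L4, E6L5]

set_option maxRecDepth 100000 in
theorem E6_levels : E6X.PChainCheck (List.finRange 6) E6chain E6levels := by decide +kernel

theorem E6_sizes : E6levels.map (fun Lv => Lv.map List.length) = [[1, 1, 1, 2, 2, 2, 2, 3, 2, 2, 2, 2, 1, 1, 1, 1], [1, 1, 1, 2, 1, 1, 1, 1], [1, 1, 2, 1, 1, 1], [1, 1, 1], [1, 1], [1]] := by decide +kernel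

theorem E6_poly (q : ℤ) : (q - 1) ^ 6 * ((1 + 1 * q ^ 1 + 1 * q ^ 2 + 1 * q ^ 3 + 2 * q ^ 4 + 2 * q ^ 5 + 2 * q ^ 6 + 2 * q ^ 7 + 3 * q ^ 8 + 2 * q ^ 9 + 2 * q ^ 10 + 2 * q ^ 11 + 2 * q ^ 12 + 1 * q ^ 13 + 1 * q ^ 14 + 1 * q ^ 15 + 1 * q ^ 16) * (1 + 1 * q ^ 1 + 1 * q ^ 2 + 1 * q ^ 3 + 2 * q ^ 4 + 1 * q ^ 5 + 1 * q ^ 6 + 1 * q ^ 7 + 1 * q ^ 8) * (1 + 1 * q ^ 1 + 1 * q ^ 2 + 2 * q ^ 3 + 1 * q ^ 4 + 1 * q ^ 5 + 1 * q ^ 6) * (1 + 1 * q ^ 1 + 1 * q ^ 2 + 1 * q ^ 3) * (1 + 1 * q ^ 1 + 1 * q ^ 2) * (1 + 1 * q ^ 1)) = (q ^ 2 - 1) * (q ^ 5 - 1) * (q ^ 6 - 1) * (q ^ 8 - 1) * (q ^ 9 - 1) * (q ^ 12 - 1) := by ring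

/-- Poincaré series of type E6: `(q-1)^l ∑_w q^l(w) = ∏ (q^d_i - 1)`. -/
theorem E6_gwt {W : Type*} [Group W] (f : Fin 6 → W) (hinv : ∀ i, f i * f i = 1)
    (hgen : ∀ w, ∃ L, wp f L = w) (hex : ExCond f)
    (hM : ∀ i j, orderOf (f i * f j) = CoxeterMatrix.E₆ i j) (q : ℕ) (hq : 1 ≤ q) :
    (q - 1) ^ 6 * gwt f q = (q ^ 2 - 1) * (q ^ 5 - 1) * (q ^ 6 - 1) * (q ^ 8 - 1) * (q ^ 9 - 1) * (q ^ 12 - 1) := by
  rw [E6X.gwt_eq E6_rs E6_m E6_chain E6_levels rfl f hinv hgen hex hM q]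
  have h1 : (E6levels.map fun Lv => 1 + szSum q 1 (Lv.map List.length)) =
      ((E6levels.map (fun Lv => Lv.map List.length)).map fun s => 1 + szSum q 1 s) := by
    rw [List.map_map]; rfl
  rw [h1, E6_sizes]
  simp only [List.map_cons, List.map_nil, List.prod_cons, List.prod_nil, szSum, mul_one, add_zero,
    Nat.reduceAdd]
  have hp : ∀ k : ℕ, 1 ≤ q ^ k := fun k => Nat.one_le_pow _ _ hq
  zify [hq, hp]
  have := E6_poly (q : ℤ)
  linear_combination this

end Cfsg.Agent.Lib.Helper45
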