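import Mathlib
import Cfsg.Agent.Lib.Helper45.ReflLenComp
import Cfsg.Agent.Lib.Helper45.CoxE7Card

/-! Poincaré series of the Coxeter group of type E7 (generated certificates). -/

set_option autoImplicit false

namespace Cfsg.Agent.Lib.Helper45

open LData
open Cfsg.Agent.Lib.Helper8 (wp ExCond)

/-- levels of orbit number 0 of type E7 -/
def E7L0 : List (List ℕ) := [[288228155400642],
  [288159435923906],
  [288158899052994],
  [288158894858690],
  [288158894858434, 288158894825922],
  [288158894825666, 288158894825920],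
  [288158894825664, 288158890631362],
  [288158890631360, 288158353760450],
  [288158890598592, 288158353760448, 288089634283714],
  [288158353727680, 288089634283712, 279293541261506],
  [288158349533376, 288089634250944, 279293541261504],
  [288158349533120, 288089630056640, 279293541228736],
  [288089630056384, 288089093185728, 279293537034432],
  [288089093185472, 279293537034176, 279293000163520],
  [288089088991168, 279293000163264, 279224280686784],
  [288089088958400, 279292995968960, 279224280686528],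
  [288089088958398, 279292995936192, 279224276492224],
  [279292995936190, 279224276459456, 279223739621312],
  [279224276459454, 279223739588544],
  [279223739588542, 279223735394240],
  [279223735394238, 279223735393984],
  [279223735393982, 279223735361470],
  [279223735361214],
  [279223731166910],
  [279223194295998],
  [279154474819262],
  [270358381797054]]

/-- levels of orbit number 1 of type E7 -/
def E7L1 : List (List ℕ) := [[292591842173378],
  [292591573737922],
  [292591571640770],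
  [292591571640642, 292591571624386],
  [292591571624258, 292591571624385],
  [292591571624257, 292591569527106],
  [292591569527105, 292591301091650],
  [292591569510721, 292591301091649, 292556941353282],
  [292591301075265, 292556941353281],
  [292591298978113, 292556941336897],
  [292591298977985, 292556939239745],
  [292556939239617, 292556670804289],
  [292556670804161],
  [292556668707009],
  [292556668690625],
  [292556668690624]]

/-- levels of orbit number 2 of type E7 -/
def E7L2 : List (List ℕ) := [[288158894842177],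
  [288158894825793],
  [288158892728641],
  [288158892728513, 288158624293185],
  [288158624293057],
  [288158622195905],
  [288158622179521],
  [288158622179520]]

/-- levels of orbit number 3 of type E7 -/
def E7L3 : List (List ℕ) := [[292626474558019],
  [292626472460867],
  [292626472460739, 292626204025411],
  [292626204025283],
  [292626201928131],
  [292626201911747]]

/-- levels of orbit number 4 of type E7 -/
def E7L4 : List (List ℕ) := [[297094054290116],
  [297094050095812],
  [297093513224900]]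

/-- levels of orbit number 5 of type E7 -/
def E7L5 : List (List ℕ) := [[297094052193092],
  [297093783757636]]

/-- levels of orbit number 6 of type E7 -/
def E7L6 : List (List ℕ) := [[306028672656582]]

/-- all levels of type E7 -/
def E7levels : List (List (List ℕ)) := [E7L0, E7L1, E7L2, E7L3, E7L4, E7L5, E7L6]

set_option maxRecDepth 100000 in
theorem E7_levels : E7X.PChainCheck (List.finRange 7) E7chain E7levels := by decide +kernel

theorem E7_sizes : E7levels.map (fun Lv => Lv.map List.length) = [[1, 1, 1, 1, 2, 2, 2, 2, 3, 3, 3, 3, 3, 3, 3, 3, 3, 3, 2, 2, 2, 2, 1, 1, 1, 1, 1], [1, 1, 1, 2, 2, 2, 2, 3, 2, 2, 2, 2, 1, 1, 1, 1], [1, 1, 1, 2, 1, 1, 1, 1], [1, 1, 2, 1, 1, 1], [1, 1, 1], [1, 1], [1]] := by decide +kernel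

theorem E7_poly (q : ℤ) : (q - 1) ^ 7 * ((1 + 1 * q ^ 1 + 1 * q ^ 2 + 1 * q ^ 3 + 1 * q ^ 4 + 2 * q ^ 5 + 2 * q ^ 6 + 2 * q ^ 7 + 2 * q ^ 8 + 3 * q ^ 9 + 3 * q ^ 10 + 3 * q ^ 11 + 3 * q ^ 12 + 3 * q ^ 13 + 3 * q ^ 14 + 3 * q ^ 15 + 3 * q ^ 16 + 3 * q ^ 17 + 3 * q ^ 18 + 2 * q ^ 19 + 2 * q ^ 20 + 2 * q ^ 21 + 2 * q ^ 22 + 1 * q ^ 23 + 1 * q ^ 24 + 1 * q ^ 25 + 1 * q ^ 26 + 1 * q ^ 27) * (1 + 1 * q ^ 1 + 1 * q ^ 2 + 1 * q ^ 3 + 2 * q ^ 4 + 2 * q ^ 5 + 2 * q ^ 6 + 2 * q ^ 7 + 3 * q ^ 8 + 2 * q ^ 9 + 2 * q ^ 10 + 2 * q ^ 11 + 2 * q ^ 12 + 1 * q ^ 13 + 1 * q ^ 14 + 1 * q ^ 15 + 1 * q ^ 16) * (1 + 1 * q ^ 1 + 1 * q ^ 2 + 1 * q ^ 3 + 2 * q ^ 4 + 1 * q ^ 5 + 1 * q ^ 6 + 1 * q ^ 7 + 1 * q ^ 8) * (1 + 1 * q ^ 1 + 1 * q ^ 2 + 2 * q ^ 3 + 1 * q ^ 4 + 1 * q ^ 5 + 1 * q ^ 6) * (1 + 1 * q ^ 1 + 1 * q ^ 2 + 1 * q ^ 3) * (1 + 1 * q ^ 1 + 1 * q ^ 2) * (1 + 1 * q ^ 1)) = (q ^ 2 - 1) * (q ^ 6 - 1) * (q ^ 8 - 1) * (q ^ 10 - 1) * (q ^ 12 - 1) * (q ^ 14 - 1) * (q ^ 18 - 1) := by ring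

/-- Poincaré series of type E7: `(q-1)^l ∑_w q^l(w) = ∏ (q^d_i - 1)`. -/
theorem E7_gwt {W : Type*} [Group W] (f : Fin 7 → W) (hinv : ∀ i, f i * f i = 1)
    (hgen : ∀ w, ∃ L, wp f L = w) (hex : ExCond f)
    (hM : ∀ i j, orderOf (f i * f j) = CoxeterMatrix.E₇ i j) (q : ℕ) (hq : 1 ≤ q) :
    (q - 1) ^ 7 * gwt f q = (q ^ 2 - 1) * (q ^ 6 - 1) * (q ^ 8 - 1) * (q ^ 10 - 1) * (q ^ 12 - 1) * (q ^ 14 - 1) * (q ^ 18 - 1) := by
  rw [E7X.gwt_eq E7_rs E7_m E7_chain E7_levels rfl f hinv hgen hex hM q]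
  have h1 : (E7levels.map fun Lv => 1 + szSum q 1 (Lv.map List.length)) =
      ((E7levels.map (fun Lv => Lv.map List.length)).map fun s => 1 + szSum q 1 s) := by
    rw [List.map_map]; rfl
  rw [h1, E7_sizes]
  simp only [List.map_cons, List.map_nil, List.prod_cons, List.prod_nil, szSum, mul_one, add_zero,
    Nat.reduceAdd]
  have hp : ∀ k : ℕ, 1 ≤ q ^ k := fun k => Nat.one_le_pow _ _ hq
  zify [hq, hp]
  have := E7_poly (q : ℤ)
  linear_combination this

end Cfsg.Agent.Lib.Helper45
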