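import Mathlib
import Cfsg.Agent.Lib.Helper45.ReflMain

/-! Certificates for the Coxeter group of type G2 (generated tables, checked by the kernel). -/

set_option autoImplicit false

namespace Cfsg.Agent.Lib.Helper45

open LData

/-- Cartan data of type G2 -/
def G2X : LData 2 where
  AT := [[2,-3],
  [-1,2]]
  dl := [1,3]
  diag := by decide
  dpos := by decide
  symm := by decide
  len := by decide

/-- positive roots of type G2 (packed) -/
def G2P : List ℕ := [8384, 8257, 8385, 8386, 8387,
  8515]

set_option maxRecDepth 100000 in
theorem G2_rs : G2X.RSCheckC G2P := by decide +kernel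

set_option maxRecDepth 100000 in
theorem G2_m : G2X.MCheck CoxeterMatrix.G₂ := by decide +kernel

set_option maxRecDepth 100000 in
theorem G2_cox : G2X.CoxCheck 6 := by decide +kernel

theorem G2_conn : G2X.ConnCheck ![0,0] 0 := by decide +kernel

set_option maxRecDepth 100000 in
theorem G2_neg : G2X.NegCheck 3 := by decide +kernel

end Cfsg.Agent.Lib.Helper45
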