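import Mathlib
import Cfsg.Agent.Lib.Helper45.ReflMain
import Cfsg.Agent.Lib.Helper45.CoxG2

/-! Certificates for the Coxeter group of type G2 (order) (generated tables, checked by the kernel). -/

set_option autoImplicit false

namespace Cfsg.Agent.Lib.Helper45

open LData

/-- orbit number 0 in the chain of type G2 (packed) -/
def G2O0 : List ℕ := [8126, 8127, 8255, 8257, 8385,
  8386]

/-- orbit number 1 in the chain of type G2 (packed) -/
def G2O1 : List ℕ := [8387, 8515]

/-- orbit-stabiliser chain of type G2 -/
def G2chain : List (List ℤ × List ℤ × List ℕ) := [(([1,5] : List ℤ), ([2,1] : List ℤ), G2O0),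
 (([1,7] : List ℤ), ([3,2] : List ℤ), G2O1)]

set_option maxRecDepth 100000 in
theorem G2_chain : G2X.ChainCheckC (List.finRange 2) G2chain := by decide +kernel

theorem G2_card : Nat.card (CoxeterMatrix.G₂).Group = 12 := by
  rw [G2X.card_group G2_rs G2_m G2_chain]
  decide +kernel

end Cfsg.Agent.Lib.Helper45
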