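import Cfsg.Agent.Lib.Helper45.F4Sym

set_option autoImplicit false

namespace Cfsg.Agent.Lib.Helper45.F4

open Cfsg.Lie

def XL14 : Array SV := #[[(0, 0)], [(1, 0), (18, 1)], [(2, 0)], [(3, 0)], [(4, 0)], [(5, 0)], [(6, 0)], [(7, 0)], [(8, 0)], [(9, 0)], [(10, 0)], [(7, 1), (11, 0)], [(12, 0)], [(13, 0)], [(14, 0)], [(15, 0)], [(16, 0)], [(17, 0)], [(18, 0)], [(8, 2), (12, 1), (19, 0)], [(9, 2), (13, 1), (20, 0)], [(10, 2), (14, 1), (21, 0)], [(15, 1), (22, 0)], [(16, 1), (23, 0)], [(17, 1), (24, 0)], [(25, 0)], [(26, 0)], [(27, 0)], [(28, 0)], [(29, 0)], [(30, 0)], [(31, 0)], [(32, 0)], [(33, 0)], [(34, 0)], [(35, 0)], [(36, 0)], [(0, 1), (18, 2), (37, 0)], [(31, 1), (38, 0)], [(32, 1), (39, 0)], [(33, 1), (40, 0)], [(41, 0)], [(42, 0)], [(43, 0)], [(44, 0)], [(34, 2), (41, 1), (45, 0)], [(35, 2), (42, 1), (46, 0)], [(36, 2), (43, 1), (47, 0)], [(44, 1), (48, 0)], [(49, 0)], [(50, 0)], [(51, 0)]]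

def XL17 : Array SV := #[[(0, 0)], [(1, 0)], [(2, 0)], [(3, 0), (21, 1)], [(4, 0)], [(5, 0)], [(6, 0)], [(7, 0)], [(5, 1), (8, 0)], [(6, 1), (9, 0)], [(10, 0)], [(11, 0)], [(12, 0)], [(13, 0)], [(14, 0)], [(11, 1), (15, 0)], [(16, 0)], [(17, 0)], [(14, 1), (18, 0)], [(19, 0)], [(20, 0)], [(21, 0)], [(22, 0)], [(23, 0)], [(24, 0)], [(19, 1), (25, 0)], [(26, 0)], [(20, 1), (27, 0)], [(28, 0)], [(29, 0)], [(30, 0)], [(23, 1), (31, 0)], [(24, 1), (32, 0)], [(33, 0)], [(1, 1), (2, 1), (21, 2), (34, 0)], [(28, 1), (35, 0)], [(30, 1), (36, 0)], [(37, 0)], [(38, 0)], [(39, 0)], [(40, 0)], [(37, 1), (41, 0)], [(42, 0)], [(43, 0)], [(40, 1), (44, 0)], [(45, 0)], [(46, 0)], [(47, 0)], [(48, 0)], [(46, 1), (49, 0)], [(47, 1), (50, 0)], [(51, 0)]]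

def XL19 : Array SV := #[[(0, 0), (23, 1)], [(1, 0)], [(2, 0), (23, 1)], [(3, 0), (23, 1)], [(4, 0)], [(5, 0)], [(6, 0)], [(7, 0)], [(8, 0)], [(5, 2), (7, 1), (9, 0)], [(10, 0)], [(11, 0)], [(12, 0)], [(11, 1), (13, 0)], [(14, 0)], [(12, 1), (15, 0)], [(16, 0)], [(14, 1), (17, 0)], [(16, 1), (18, 0)], [(19, 0)], [(20, 0)], [(21, 0)], [(22, 0)], [(23, 0)], [(24, 0)], [(25, 0)], [(26, 0)], [(19, 2), (22, 1), (27, 0)], [(28, 0)], [(21, 2), (24, 1), (29, 0)], [(30, 0)], [(31, 0)], [(1, 1), (23, 2), (32, 0)], [(33, 0)], [(26, 2), (31, 1), (34, 0)], [(35, 0)], [(28, 2), (33, 1), (36, 0)], [(37, 0)], [(38, 0)], [(37, 1), (39, 0)], [(40, 0)], [(38, 1), (41, 0)], [(42, 0)], [(40, 1), (43, 0)], [(42, 1), (44, 0)], [(45, 0)], [(46, 0)], [(47, 0)], [(48, 0)], [(49, 0)], [(46, 2), (48, 1), (50, 0)], [(51, 0)]]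

def XL20 : Array SV := #[[(0, 0), (24, 1)], [(1, 0)], [(2, 0), (24, 1)], [(3, 0)], [(4, 0)], [(5, 0)], [(6, 0)], [(7, 0)], [(6, 2), (7, 1), (8, 0)], [(9, 0)], [(10, 0)], [(11, 0)], [(11, 1), (12, 0)], [(13, 0)], [(14, 0)], [(13, 1), (15, 0)], [(14, 1), (16, 0)], [(17, 0)], [(17, 1), (18, 0)], [(19, 0)], [(20, 0)], [(21, 0)], [(22, 0)], [(23, 0)], [(24, 0)], [(20, 2), (22, 1), (25, 0)], [(21, 2), (23, 1), (26, 0)], [(27, 0)], [(28, 0)], [(29, 0)], [(30, 0)], [(1, 1), (24, 2), (31, 0)], [(32, 0)], [(33, 0)], [(29, 2), (32, 1), (34, 0)], [(30, 2), (33, 1), (35, 0)], [(36, 0)], [(37, 0)], [(37, 1), (38, 0)], [(39, 0)], [(40, 0)], [(39, 1), (41, 0)], [(40, 1), (42, 0)], [(43, 0)], [(43, 1), (44, 0)], [(45, 0)], [(46, 0)], [(47, 0)], [(48, 0)], [(47, 2), (48, 1), (49, 0)], [(50, 0)], [(51, 0)]]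

def XL22 : Array SV := #[[(0, 0)], [(1, 0)], [(2, 0)], [(3, 0), (26, 1)], [(4, 0)], [(5, 0)], [(5, 1), (6, 0)], [(7, 0)], [(8, 0)], [(8, 1), (9, 0)], [(10, 0)], [(11, 0)], [(12, 0)], [(12, 1), (13, 0)], [(14, 0)], [(15, 0)], [(16, 0)], [(16, 1), (17, 0)], [(18, 0)], [(19, 0)], [(19, 1), (20, 0)], [(21, 0)], [(22, 0)], [(23, 0)], [(23, 1), (24, 0)], [(25, 0)], [(26, 0)], [(25, 1), (27, 0)], [(28, 0)], [(2, 1), (26, 2), (29, 0)], [(28, 1), (30, 0)], [(31, 0)], [(31, 1), (32, 0)], [(33, 0)], [(34, 0)], [(35, 0)], [(35, 1), (36, 0)], [(37, 0)], [(38, 0)], [(38, 1), (39, 0)], [(40, 0)], [(41, 0)], [(42, 0)], [(42, 1), (43, 0)], [(44, 0)], [(45, 0)], [(46, 0)], [(46, 1), (47, 0)], [(48, 0)], [(49, 0)], [(49, 1), (50, 0)], [(51, 0)]]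

def XL23 : Array SV := #[[(0, 0)], [(1, 0)], [(2, 0), (27, 1)], [(3, 0)], [(4, 0)], [(4, 1), (5, 0)], [(6, 0)], [(7, 0)], [(8, 0)], [(9, 0)], [(9, 1), (10, 0)], [(11, 0)], [(12, 0)], [(13, 0)], [(13, 1), (14, 0)], [(15, 0)], [(15, 1), (16, 0)], [(17, 0)], [(18, 0)], [(19, 0)], [(20, 0)], [(20, 1), (21, 0)], [(22, 0)], [(22, 1), (23, 0)], [(24, 0)], [(25, 0)], [(25, 1), (26, 0)], [(27, 0)], [(3, 1), (27, 2), (28, 0)], [(29, 0)], [(29, 1), (30, 0)], [(31, 0)], [(32, 0)], [(32, 1), (33, 0)], [(34, 0)], [(34, 1), (35, 0)], [(36, 0)], [(37, 0)], [(38, 0)], [(39, 0)], [(39, 1), (40, 0)], [(41, 0)], [(41, 1), (42, 0)], [(43, 0)], [(44, 0)], [(45, 0)], [(45, 1), (46, 0)], [(47, 0)], [(48, 0)], [(49, 0)], [(50, 0)], [(50, 1), (51, 0)]]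

def XL24 : Array SV := #[[(0, 0)], [(1, 0)], [(2, 0), (28, 1)], [(3, 0)], [(4, 0), (5, 1)], [(5, 0)], [(6, 0)], [(7, 0)], [(8, 0)], [(9, 0), (10, 1)], [(10, 0)], [(11, 0)], [(12, 0)], [(13, 0), (14, 1)], [(14, 0)], [(15, 0), (16, 1)], [(16, 0)], [(17, 0)], [(18, 0)], [(19, 0)], [(20, 0), (21, 1)], [(21, 0)], [(22, 0), (23, 1)], [(23, 0)], [(24, 0)], [(25, 0), (26, 1)], [(26, 0)], [(3, 1), (27, 0), (28, 2)], [(28, 0)], [(29, 0), (30, 1)], [(30, 0)], [(31, 0)], [(32, 0), (33, 1)], [(33, 0)], [(34, 0), (35, 1)], [(35, 0)], [(36, 0)], [(37, 0)], [(38, 0)], [(39, 0), (40, 1)], [(40, 0)], [(41, 0), (42, 1)], [(42, 0)], [(43, 0)], [(44, 0)], [(45, 0), (46, 1)], [(46, 0)], [(47, 0)], [(48, 0)], [(49, 0)], [(50, 0), (51, 1)], [(51, 0)]]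

def XL25 : Array SV := #[[(0, 0)], [(1, 0)], [(2, 0)], [(3, 0), (29, 1)], [(4, 0)], [(5, 0), (6, 1)], [(6, 0)], [(7, 0)], [(8, 0), (9, 1)], [(9, 0)], [(10, 0)], [(11, 0)], [(12, 0), (13, 1)], [(13, 0)], [(14, 0)], [(15, 0)], [(16, 0), (17, 1)], [(17, 0)], [(18, 0)], [(19, 0), (20, 1)], [(20, 0)], [(21, 0)], [(22, 0)], [(23, 0), (24, 1)], [(24, 0)], [(25, 0), (27, 1)], [(2, 1), (26, 0), (29, 2)], [(27, 0)], [(28, 0), (30, 1)], [(29, 0)], [(30, 0)], [(31, 0), (32, 1)], [(32, 0)], [(33, 0)], [(34, 0)], [(35, 0), (36, 1)], [(36, 0)], [(37, 0)], [(38, 0), (39, 1)], [(39, 0)], [(40, 0)], [(41, 0)], [(42, 0), (43, 1)], [(43, 0)], [(44, 0)], [(45, 0)], [(46, 0), (47, 1)], [(47, 0)], [(48, 0)], [(49, 0), (50, 1)], [(50, 0)], [(51, 0)]]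

def XL27 : Array SV := #[[(0, 0), (31, 1)], [(1, 0)], [(2, 0), (31, 1)], [(3, 0)], [(4, 0)], [(5, 0)], [(6, 0), (7, 1), (8, 2)], [(7, 0)], [(8, 0)], [(9, 0)], [(10, 0)], [(11, 0), (12, 1)], [(12, 0)], [(13, 0), (15, 1)], [(14, 0), (16, 1)], [(15, 0)], [(16, 0)], [(17, 0), (18, 1)], [(18, 0)], [(19, 0)], [(20, 0), (22, 1), (25, 2)], [(21, 0), (23, 1), (26, 2)], [(22, 0)], [(23, 0)], [(1, 1), (24, 0), (31, 2)], [(25, 0)], [(26, 0)], [(27, 0)], [(28, 0)], [(29, 0), (32, 1), (34, 2)], [(30, 0), (33, 1), (35, 2)], [(31, 0)], [(32, 0)], [(33, 0)], [(34, 0)], [(35, 0)], [(36, 0)], [(37, 0), (38, 1)], [(38, 0)], [(39, 0), (41, 1)], [(40, 0), (42, 1)], [(41, 0)], [(42, 0)], [(43, 0), (44, 1)], [(44, 0)], [(45, 0)], [(46, 0)], [(47, 0), (48, 1), (49, 2)], [(48, 0)], [(49, 0)], [(50, 0)], [(51, 0)]]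

def XL28 : Array SV := #[[(0, 0), (32, 1)], [(1, 0)], [(2, 0), (32, 1)], [(3, 0), (32, 1)], [(4, 0)], [(5, 0), (7, 1), (9, 2)], [(6, 0)], [(7, 0)], [(8, 0)], [(9, 0)], [(10, 0)], [(11, 0), (13, 1)], [(12, 0), (15, 1)], [(13, 0)], [(14, 0), (17, 1)], [(15, 0)], [(16, 0), (18, 1)], [(17, 0)], [(18, 0)], [(19, 0), (22, 1), (27, 2)], [(20, 0)], [(21, 0), (24, 1), (29, 2)], [(22, 0)], [(1, 1), (23, 0), (32, 2)], [(24, 0)], [(25, 0)], [(26, 0), (31, 1), (34, 2)], [(27, 0)], [(28, 0), (33, 1), (36, 2)], [(29, 0)], [(30, 0)], [(31, 0)], [(32, 0)], [(33, 0)], [(34, 0)], [(35, 0)], [(36, 0)], [(37, 0), (39, 1)], [(38, 0), (41, 1)], [(39, 0)], [(40, 0), (43, 1)], [(41, 0)], [(42, 0), (44, 1)], [(43, 0)], [(44, 0)], [(45, 0)], [(46, 0), (48, 1), (50, 2)], [(47, 0)], [(48, 0)], [(49, 0)], [(50, 0)], [(51, 0)]]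

def XL30 : Array SV := #[[(0, 0)], [(1, 0)], [(2, 0)], [(3, 0), (34, 1)], [(4, 0)], [(5, 0), (8, 1)], [(6, 0), (9, 1)], [(7, 0)], [(8, 0)], [(9, 0)], [(10, 0)], [(11, 0), (15, 1)], [(12, 0)], [(13, 0)], [(14, 0), (18, 1)], [(15, 0)], [(16, 0)], [(17, 0)], [(18, 0)], [(19, 0), (25, 1)], [(20, 0), (27, 1)], [(1, 1), (2, 1), (21, 0), (34, 2)], [(22, 0)], [(23, 0), (31, 1)], [(24, 0), (32, 1)], [(25, 0)], [(26, 0)], [(27, 0)], [(28, 0), (35, 1)], [(29, 0)], [(30, 0), (36, 1)], [(31, 0)], [(32, 0)], [(33, 0)], [(34, 0)], [(35, 0)], [(36, 0)], [(37, 0), (41, 1)], [(38, 0)], [(39, 0)], [(40, 0), (44, 1)], [(41, 0)], [(42, 0)], [(43, 0)], [(44, 0)], [(45, 0)], [(46, 0), (49, 1)], [(47, 0), (50, 1)], [(48, 0)], [(49, 0)], [(50, 0)], [(51, 0)]]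

def XL33 : Array SV := #[[(0, 0)], [(1, 0), (37, 1)], [(2, 0)], [(3, 0)], [(4, 0)], [(5, 0)], [(6, 0)], [(7, 0), (11, 1)], [(8, 0), (12, 1), (19, 2)], [(9, 0), (13, 1), (20, 2)], [(10, 0), (14, 1), (21, 2)], [(11, 0)], [(12, 0)], [(13, 0)], [(14, 0)], [(15, 0), (22, 1)], [(16, 0), (23, 1)], [(17, 0), (24, 1)], [(0, 1), (18, 0), (37, 2)], [(19, 0)], [(20, 0)], [(21, 0)], [(22, 0)], [(23, 0)], [(24, 0)], [(25, 0)], [(26, 0)], [(27, 0)], [(28, 0)], [(29, 0)], [(30, 0)], [(31, 0), (38, 1)], [(32, 0), (39, 1)], [(33, 0), (40, 1)], [(34, 0), (41, 1), (45, 2)], [(35, 0), (42, 1), (46, 2)], [(36, 0), (43, 1), (47, 2)], [(37, 0)], [(38, 0)], [(39, 0)], [(40, 0)], [(41, 0)], [(42, 0)], [(43, 0)], [(44, 0), (48, 1)], [(45, 0)], [(46, 0)], [(47, 0)], [(48, 0)], [(49, 0)], [(50, 0)], [(51, 0)]]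

def XL : Array (Array SV) := #[#[], #[], #[], #[], #[], #[], #[], #[], #[], #[], #[], #[], #[], #[], XL14, #[], #[], XL17, #[], XL19, XL20, #[], XL22, XL23, XL24, XL25, #[], XL27, XL28, #[], XL30, #[], #[], XL33, #[], #[], #[], #[], #[], #[], #[], #[], #[], #[], #[], #[], #[], #[]]

def adL0 : Array (List ℕ) := #[[], [], [], [], [], [], [], [7], [], [], [], [11], [], [], [], [15], [16], [17], [], [], [], [], [22], [23], [24], [], [], [], [], [], [], [31], [32], [33], [], [], [], [], [38], [39], [40], [], [], [], [44], [], [], [], [48], [], [], []]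

def adL1 : Array (List ℕ) := #[[], [], [], [], [], [], [], [], [], [], [], [11], [12], [13], [14], [15], [16], [17], [18], [], [], [], [], [], [], [], [], [], [], [], [], [], [], [], [], [], [], [37], [38], [39], [40], [41], [42], [43], [44], [], [], [], [], [], [], []]

def adL2 : Array (List ℕ) := #[[], [], [], [], [], [5], [6], [], [8], [9], [], [], [12], [13], [], [], [16], [17], [], [19], [20], [], [], [23], [24], [25], [], [27], [28], [], [30], [31], [32], [], [], [35], [36], [], [38], [39], [], [], [42], [43], [], [], [46], [47], [], [49], [50], []]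

def adL3 : Array (List ℕ) := #[[], [], [], [], [4], [5], [], [], [], [9], [10], [], [], [13], [14], [15], [16], [], [], [], [20], [21], [22], [23], [], [25], [26], [], [], [29], [30], [], [32], [33], [34], [35], [], [], [], [39], [40], [41], [42], [], [], [45], [46], [], [], [], [50], [51]]

def adL4 : Array (List ℕ) := #[[], [], [], [4], [], [], [], [], [], [], [], [], [], [], [], [], [], [], [], [], [], [], [], [], [], [], [], [], [5], [], [6], [], [], [7], [], [8], [9], [], [], [], [11], [], [12], [13], [15], [], [19], [20], [22], [25], [27], [0, 2]]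

def adL5 : Array (List ℕ) := #[[], [], [5], [5], [], [], [], [], [], [], [], [], [], [], [], [], [], [], [], [], [], [], [], [], [], [], [], [4], [], [6], [], [], [7], [], [8], [], [10], [], [], [11], [], [12], [], [14], [16], [19], [], [21], [23], [26], [0, 2, 3], [28]]

def adL6 : Array (List ℕ) := #[[], [], [6], [], [], [], [], [], [], [], [], [], [], [], [], [], [], [], [], [], [], [], [], [], [], [4], [5], [], [], [], [], [7], [], [], [9], [10], [], [], [11], [], [], [13], [14], [], [17], [20], [21], [], [24], [0, 3], [29], [30]]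

def adL7 : Array (List ℕ) := #[[7], [], [], [], [], [], [], [], [], [], [], [], [], [], [], [], [], [], [], [], [], [], [], [], [], [], [], [], [], [], [], [], [], [], [], [], [], [11], [12], [13], [14], [15], [16], [17], [18], [22], [23], [24], [1], [31], [32], [33]]

def adL8 : Array (List ℕ) := #[[], [], [8], [], [], [], [], [], [], [], [], [], [], [], [], [], [], [], [], [], [4], [5], [], [], [7], [], [], [], [], [9], [10], [], [], [], [], [], [], [12], [], [15], [16], [], [], [18], [], [25], [26], [0, 1, 3], [31], [], [34], [35]]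

def adL9 : Array (List ℕ) := #[[], [], [9], [9], [], [], [], [], [], [], [], [], [], [], [], [], [], [], [], [4], [], [6], [], [7], [], [], [8], [], [10], [], [], [], [], [], [], [], [], [13], [15], [], [17], [], [18], [], [], [27], [0, 1, 2, 3], [29], [32], [34], [], [36]]

def adL10 : Array (List ℕ) := #[[], [], [], [10], [], [], [], [], [], [], [], [], [], [], [], [], [], [], [], [5], [6], [], [7], [], [], [8], [], [9], [], [], [], [], [], [], [], [], [], [14], [16], [17], [], [18], [], [], [], [0, 1, 2], [28], [30], [33], [35], [36], []]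

def adL11 : Array (List ℕ) := #[[11], [11], [], [], [], [], [], [], [], [], [], [], [], [], [], [], [], [], [7], [], [], [], [], [], [], [], [], [], [], [], [], [12], [13], [14], [15], [16], [17], [], [], [], [], [22], [23], [24], [0, 1], [], [], [], [37], [38], [39], [40]]

def adL12 : Array (List ℕ) := #[[], [12], [12], [], [], [], [], [], [], [], [], [], [], [], [], [], [], [7], [], [], [], [], [], [], [11], [], [], [], [], [13], [14], [], [15], [16], [], [], [18], [], [], [22], [23], [], [], [0], [31], [], [], [37], [38], [], [41], [42]]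

def adL13 : Array (List ℕ) := #[[], [13], [13], [13], [], [], [], [], [], [], [], [], [], [], [], [], [7], [], [], [], [], [], [], [11], [], [], [12], [], [14], [], [], [15], [], [17], [], [18], [], [], [22], [], [24], [], [0], [], [32], [], [37], [], [39], [41], [], [43]]

def adL14 : Array (List ℕ) := #[[], [14], [], [14], [], [], [], [], [], [], [], [], [], [], [], [7], [], [], [], [], [], [], [11], [], [], [12], [], [13], [], [], [], [16], [17], [], [18], [], [], [], [23], [24], [], [0], [], [], [33], [37], [], [], [40], [42], [43], []]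

def adL15 : Array (List ℕ) := #[[15], [15], [], [15], [], [], [], [], [], [], [], [], [], [], [7], [], [], [], [], [], [], [11], [], [12], [13], [], [], [], [16], [], [17], [], [], [18], [], [], [], [22], [], [], [0, 1], [], [31], [32], [], [], [38], [39], [41], [], [], [44]]

def adL16 : Array (List ℕ) := #[[16], [16], [16], [16], [], [], [], [], [], [], [], [], [], [7], [], [], [], [], [], [], [11], [], [12], [], [14], [], [], [15], [], [17], [], [], [18], [], [], [], [], [23], [], [0, 1], [], [31], [], [33], [], [38], [], [40], [42], [], [44], []]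

def adL17 : Array (List ℕ) := #[[17], [17], [17], [], [], [], [], [], [], [], [], [], [7], [], [], [], [], [], [], [11], [], [], [13], [14], [], [15], [16], [], [], [], [], [18], [], [], [], [], [], [24], [0, 1], [], [], [32], [33], [], [], [39], [40], [], [43], [44], [], []]

def adL18 : Array (List ℕ) := #[[], [18], [], [], [], [], [], [], [], [], [], [7], [], [], [], [], [], [], [], [12], [13], [14], [15], [16], [17], [], [], [], [], [], [], [], [], [], [], [], [], [0], [31], [32], [33], [], [], [], [], [41], [42], [43], [44], [], [], []]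

def adL19 : Array (List ℕ) := #[[], [], [19], [], [], [], [], [], [], [4], [5], [], [], [], [], [], [], [11], [12], [], [], [], [], [], [], [], [], [], [], [20], [21], [], [22], [23], [25], [26], [1, 3], [], [], [], [], [], [], [37], [38], [], [], [], [], [], [45], [46]]

def adL20 : Array (List ℕ) := #[[], [], [20], [20], [], [], [], [], [4], [], [6], [], [], [], [], [], [11], [], [13], [], [], [], [], [], [], [], [19], [], [21], [], [], [22], [], [24], [27], [1, 2, 3], [29], [], [], [], [], [], [37], [], [39], [], [], [], [], [45], [], [47]]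

def adL21 : Array (List ℕ) := #[[], [], [], [21], [], [], [], [], [5], [6], [], [], [], [], [], [11], [], [], [14], [], [], [], [], [], [], [19], [], [20], [], [], [], [23], [24], [], [1, 2], [28], [30], [], [], [], [], [37], [], [], [40], [], [], [], [], [46], [47], []]

def adL22 : Array (List ℕ) := #[[22], [], [], [22], [], [], [], [], [], [], [7], [], [], [], [11], [], [12], [13], [15], [], [], [], [], [], [], [], [], [], [23], [], [24], [], [], [1], [], [31], [32], [], [], [], [37], [], [38], [39], [41], [], [], [], [], [], [], [48]]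

def adL23 : Array (List ℕ) := #[[23], [], [23], [23], [], [], [], [], [], [7], [], [], [], [11], [], [12], [], [14], [16], [], [], [], [], [], [], [], [], [22], [], [24], [], [], [1], [], [31], [], [33], [], [], [37], [], [38], [], [40], [42], [], [], [], [], [], [48], []]

def adL24 : Array (List ℕ) := #[[24], [], [24], [], [], [], [], [], [7], [], [], [], [11], [], [], [13], [14], [], [17], [], [], [], [], [], [], [22], [23], [], [], [], [], [1], [], [], [32], [33], [], [], [37], [], [], [39], [40], [], [43], [], [], [], [], [48], [], []]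

def adL25 : Array (List ℕ) := #[[], [], [25], [25], [], [], [4], [], [], [], [8], [], [], [], [12], [], [], [15], [], [], [], [19], [], [], [22], [], [], [], [26], [27], [2, 3], [], [], [31], [], [], [34], [], [], [], [38], [], [], [41], [], [], [], [45], [], [], [], [49]]

def adL26 : Array (List ℕ) := #[[], [], [], [26], [], [], [5], [], [], [8], [], [], [], [12], [], [], [], [16], [], [], [19], [], [], [], [23], [], [], [25], [], [2], [28], [], [31], [], [], [], [35], [], [], [38], [], [], [], [42], [], [], [], [46], [], [], [49], []]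

def adL27 : Array (List ℕ) := #[[], [], [27], [], [], [4], [], [], [], [], [9], [], [], [], [13], [], [15], [], [], [], [], [20], [], [22], [], [], [25], [], [3], [], [29], [], [], [32], [], [34], [], [], [], [], [39], [], [41], [], [], [], [45], [], [], [], [], [50]]

def adL28 : Array (List ℕ) := #[[], [], [28], [], [5], [], [], [], [], [10], [], [], [], [14], [], [16], [], [], [], [], [21], [], [23], [], [], [26], [], [3], [], [30], [], [], [33], [], [35], [], [], [], [], [40], [], [42], [], [], [], [46], [], [], [], [], [51], []]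

def adL29 : Array (List ℕ) := #[[], [], [], [29], [], [6], [], [], [9], [], [], [], [13], [], [], [], [17], [], [], [20], [], [], [], [24], [], [27], [2], [], [30], [], [], [32], [], [], [], [36], [], [], [39], [], [], [], [43], [], [], [], [47], [], [], [50], [], []]

def adL30 : Array (List ℕ) := #[[], [], [30], [30], [6], [], [], [], [10], [], [], [], [14], [], [], [17], [], [], [], [21], [], [], [24], [], [], [2, 3], [28], [29], [], [], [], [33], [], [], [36], [], [], [], [40], [], [], [43], [], [], [], [47], [], [], [], [51], [], []]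

def adL31 : Array (List ℕ) := #[[31], [], [31], [], [], [], [7], [], [], [], [], [12], [], [15], [16], [], [], [18], [], [], [22], [23], [], [], [1], [], [], [], [], [32], [33], [], [], [], [], [], [], [38], [], [41], [42], [], [], [44], [], [], [], [48], [], [], [], []]

def adL32 : Array (List ℕ) := #[[32], [], [32], [32], [], [7], [], [], [], [], [], [13], [15], [], [17], [], [18], [], [], [22], [], [24], [], [1], [], [], [31], [], [33], [], [], [], [], [], [], [], [], [39], [41], [], [43], [], [44], [], [], [], [48], [], [], [], [], []]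

def adL33 : Array (List ℕ) := #[[33], [], [], [33], [7], [], [], [], [], [], [], [14], [16], [17], [], [18], [], [], [], [23], [24], [], [1], [], [], [31], [], [32], [], [], [], [], [], [], [], [], [], [40], [42], [43], [], [44], [], [], [], [48], [], [], [], [], [], []]

def adL34 : Array (List ℕ) := #[[], [], [], [34], [], [8], [9], [], [], [], [], [15], [], [], [18], [], [], [], [], [25], [27], [1, 2], [], [31], [32], [], [], [], [35], [], [36], [], [], [], [], [], [], [41], [], [], [44], [], [], [], [], [], [49], [50], [], [], [], []]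

def adL35 : Array (List ℕ) := #[[], [], [35], [35], [8], [], [10], [], [], [], [], [16], [], [18], [], [], [], [], [], [26], [1, 2, 3], [28], [31], [], [33], [], [], [34], [], [36], [], [], [], [], [], [], [], [42], [], [44], [], [], [], [], [], [49], [], [51], [], [], [], []]

def adL36 : Array (List ℕ) := #[[], [], [36], [], [9], [10], [], [], [], [], [], [17], [18], [], [], [], [], [], [], [1, 3], [29], [30], [32], [33], [], [34], [35], [], [], [], [], [], [], [], [], [], [], [43], [44], [], [], [], [], [], [], [50], [51], [], [], [], [], []]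

def adL37 : Array (List ℕ) := #[[], [37], [], [], [], [], [], [11], [12], [13], [14], [], [], [], [], [22], [23], [24], [0], [], [], [], [], [], [], [], [], [], [], [], [], [38], [39], [40], [41], [42], [43], [], [], [], [], [], [], [], [48], [], [], [], [], [], [], []]

def adL38 : Array (List ℕ) := #[[38], [38], [38], [], [], [], [11], [12], [], [15], [16], [], [], [22], [23], [], [], [0, 1], [31], [], [], [], [], [], [37], [], [], [], [], [39], [40], [], [41], [42], [], [], [44], [], [], [], [], [], [], [48], [], [], [], [], [], [], [], []]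

def adL39 : Array (List ℕ) := #[[39], [39], [39], [39], [], [11], [], [13], [15], [], [17], [], [22], [], [24], [], [0, 1], [], [32], [], [], [], [], [37], [], [], [38], [], [40], [], [], [41], [], [43], [], [44], [], [], [], [], [], [], [48], [], [], [], [], [], [], [], [], []]

def adL40 : Array (List ℕ) := #[[40], [40], [], [40], [11], [], [], [14], [16], [17], [], [], [23], [24], [], [0, 1], [], [], [33], [], [], [], [37], [], [], [38], [], [39], [], [], [], [42], [43], [], [44], [], [], [], [], [], [], [48], [], [], [], [], [], [], [], [], [], []]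

def adL41 : Array (List ℕ) := #[[], [41], [], [41], [], [12], [13], [15], [], [], [18], [22], [], [], [0], [], [31], [32], [], [], [], [37], [], [38], [39], [], [], [], [42], [], [43], [], [], [44], [], [], [], [], [], [], [48], [], [], [], [], [], [], [], [], [], [], []]

def adL42 : Array (List ℕ) := #[[], [42], [42], [42], [12], [], [14], [16], [], [18], [], [23], [], [0], [], [31], [], [33], [], [], [37], [], [38], [], [40], [], [], [41], [], [43], [], [], [44], [], [], [], [], [], [], [48], [], [], [], [], [], [], [], [], [], [], [], []]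

def adL43 : Array (List ℕ) := #[[], [43], [43], [], [13], [14], [], [17], [18], [], [], [24], [0], [], [], [32], [33], [], [], [37], [], [], [39], [40], [], [41], [42], [], [], [], [], [44], [], [], [], [], [], [], [48], [], [], [], [], [], [], [], [], [], [], [], [], []]

def adL44 : Array (List ℕ) := #[[44], [44], [], [], [15], [16], [17], [18], [], [], [], [0, 1], [31], [32], [33], [], [], [], [], [38], [39], [40], [41], [42], [43], [], [], [], [], [], [], [], [], [], [], [], [], [48], [], [], [], [], [], [], [], [], [], [], [], [], [], []]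

def adL45 : Array (List ℕ) := #[[], [], [], [45], [], [19], [20], [22], [25], [27], [0, 1, 2], [], [], [], [37], [], [38], [39], [41], [], [], [], [], [], [], [], [], [], [46], [], [47], [], [], [48], [], [49], [50], [], [], [], [], [], [], [], [], [], [], [], [], [], [], []]

def adL46 : Array (List ℕ) := #[[], [], [46], [46], [19], [], [21], [23], [26], [0, 1, 2, 3], [28], [], [], [37], [], [38], [], [40], [42], [], [], [], [], [], [], [], [], [45], [], [47], [], [], [48], [], [49], [], [51], [], [], [], [], [], [], [], [], [], [], [], [], [], [], []]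

def adL47 : Array (List ℕ) := #[[], [], [47], [], [20], [21], [], [24], [0, 1, 3], [29], [30], [], [37], [], [], [39], [40], [], [43], [], [], [], [], [], [], [45], [46], [], [], [], [], [48], [], [], [50], [51], [], [], [], [], [], [], [], [], [], [], [], [], [], [], [], []]

def adL48 : Array (List ℕ) := #[[48], [], [], [], [22], [23], [24], [1], [31], [32], [33], [37], [38], [39], [40], [41], [42], [43], [44], [], [], [], [], [], [], [], [], [], [], [], [], [], [], [], [], [], [], [], [], [], [], [], [], [], [], [], [], [], [], [], [], []]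

def adL49 : Array (List ℕ) := #[[], [], [49], [], [25], [26], [0, 3], [31], [], [34], [35], [38], [], [41], [42], [], [], [44], [], [], [45], [46], [], [], [48], [], [], [], [], [50], [51], [], [], [], [], [], [], [], [], [], [], [], [], [], [], [], [], [], [], [], [], []]

def adL50 : Array (List ℕ) := #[[], [], [50], [50], [27], [0, 2, 3], [29], [32], [34], [], [36], [39], [41], [], [43], [], [44], [], [], [45], [], [47], [], [48], [], [], [49], [], [51], [], [], [], [], [], [], [], [], [], [], [], [], [], [], [], [], [], [], [], [], [], [], []]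

def adL51 : Array (List ℕ) := #[[], [], [], [51], [0, 2], [28], [30], [33], [35], [36], [], [40], [42], [43], [], [44], [], [], [], [46], [47], [], [48], [], [], [49], [], [50], [], [], [], [], [], [], [], [], [], [], [], [], [], [], [], [], [], [], [], [], [], [], [], []]

def adL : Array (Array (List ℕ)) := #[adL0, adL1, adL2, adL3, adL4, adL5, adL6, adL7, adL8, adL9, adL10, adL11, adL12, adL13, adL14, adL15, adL16, adL17, adL18, adL19, adL20, adL21, adL22, adL23, adL24, adL25, adL26, adL27, adL28, adL29, adL30, adL31, adL32, adL33, adL34, adL35, adL36, adL37, adL38, adL39, adL40, adL41, adL42, adL43, adL44, adL45, adL46, adL47, adL48, adL49, adL50, adL51]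


def Xtab (r n : ℕ) : SV := if n < 52 then (XL.getD r #[]).getD n [] else []

def adT (i c : ℕ) : List ℕ := if i < 52 then (if c < 52 then (adL.getD i #[]).getD c [] else []) else []

def xEntN (r row col : ℕ) : List (ℕ × ℤ) :=
  if col < 4 then
    (if row < 4 then (if row = col then [(0, 1)] else [])
     else (if row - 4 = r then [(1, - ((chevF4.cartanSR.getD col #[]).getD r 0))] else []))
  else
    if col - 4 = r then (if row = col then [(0, 1)] else [])
    else if col - 4 = chevF4.negIdx.getD r 0 then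
      (if row < 4 then [(1, (chevF4.coroot.getD r #[]).getD row 0)]
       else if row = col then [(0, 1)] else if row - 4 = r then [(2, -1)] else [])
    else
      (if row < 4 then []
       else (if row = col then [(0, 1)] else []) ++ chevF4.chainCoeff r (col - 4) (row - 4))

def R12 : List ℕ := [33, 24, 14, 23, 27, 25, 28, 30, 20, 22, 19, 17]

def SS : List ℕ := [0, 1, 7, 11, 12, 13, 14, 15, 16, 17, 18, 22, 23, 24, 31, 32, 33, 37, 38, 39, 40, 41, 42, 43, 44, 48]

def applyX (r : ℕ) (l : SV) : SV := l.flatMap fun p => (Xtab r p.1).map fun q => (q.1, q.2 + p.2)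

def brk (l₁ l₂ : SV) : SV :=
  l₁.flatMap fun p => l₂.flatMap fun q => (adT p.1 q.1).map fun ρ => (ρ, p.2 + q.2)

def certOf (c₀ : ℕ) : ℕ × ℕ :=
  if c₀ = 0 then (7, 7) else if c₀ = 1 then (12, 12)
  else if c₀ ∈ [12, 13, 14, 18, 37, 41, 42, 43] then (1, c₀) else (0, c₀)

theorem C1 : (R12.all fun r => (List.range 52).all fun row => (List.range 52).all fun col =>
    decide (((xEntN r row col).filter (fun p => p.2 % 2 != 0)).map Prod.fst =
      ((Xtab r col).filter (fun p => p.1 = row)).map Prod.snd)) = true := by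
  decide +kernel

theorem C2 : (R12.all fun r => (List.range 52).all fun i => (List.range 52).all fun c =>
    decide (cancel (applyX r ((adT i c).map fun ρ => (ρ, 0)) ++ brk (Xtab r i) (Xtab r c)) = [])) = true := by
  decide +kernel

theorem C3 : (R12.all fun r => (List.range 52).all fun c =>
    decide (cancel (applyX r (Xtab r c) ++ [(c, 0)]) = [])) = true := by
  decide +kernel

theorem C4 : (R12.all fun r => SS.all fun c => (Xtab r c).all fun p => decide (p.1 ∈ SS)) = true := by
  decide +kernel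

theorem C5 : (SS.all fun i => (List.range 52).all fun c => (adT i c).all fun p => decide (p ∈ SS)) = true := by
  decide +kernel

theorem C6 : (SS.all fun c₀ => decide ((certOf c₀).1 ∈ SS) && SS.all fun c =>
    decide (((adT (certOf c₀).1 c).filter fun x => x = (certOf c₀).2).length = if c = c₀ then 1 else 0)) = true := by
  decide +kernel

end Cfsg.Agent.Lib.Helper45.F4
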