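import Cfsg.Agent.Lib.Helper22.ChevGr

/-!
# Rectangular intertwining matrices between the adjoint modules of two Chevalley data,
checked with the symbolic evaluator of `Helper22/ChevEval.lean`
-/

set_option autoImplicit false

namespace Cfsg.Agent.Lib.Helper45

open Cfsg.Lie Matrix Cfsg.Agent.Lib.Helper22

variable {F : Type*} [Field F]

/-- the matrix `D'.Idx → D.Idx` whose `k`-th column is described by `ecol k` (constant entries) -/
noncomputable def eM (D D' : ChevalleyDatum) (F : Type*) [Field F] (ecol : ℕ → List Ent) :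
    Matrix D.Idx D'.Idx F :=
  Matrix.of fun row col =>
    ((ecol (codeI D' col)).map fun en => ((dc en.c : ℤ) : F) • bv D F en.k).sum row

variable {D D' : ChevalleyDatum} {ecol : ℕ → List Ent}

theorem eM_col (hbig : ∀ k, D'.nroots + D'.rank ≤ k → ecol k = []) (k : ℕ) :
    eM D D' F ecol *ᵥ bv D' F k =
      ((ecol k).map fun en => (((dc en.c : ℤ) : F) * (1 : F) ^ en.e) • bv D F en.k).sum := by
  simp only [one_pow, mul_one]
  by_cases hk : k < D'.nroots + D'.rank
  · have : ∃ idx : D'.Idx, codeI D' idx = k := by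
      by_cases h1 : k < D'.nroots
      · exact ⟨Sum.inr ⟨k, h1⟩, rfl⟩
      · refine ⟨Sum.inl ⟨k - D'.nroots, by omega⟩, ?_⟩
        show D'.nroots + (k - D'.nroots) = k
        omega
    obtain ⟨idx, rfl⟩ := this
    rw [bv_codeI', mulVec_single_one]
    ext row
    rfl
  · rw [hbig k (by omega), bv_of_large D' (by omega) (by omega)]
    simp

theorem oneMono_eval (y : Env F) : Mono.eval y ⟨2, 0, 0, 0, 0⟩ = 1 := by
  simp [Mono.eval, dc_two]

theorem applyE_sound (hbig : ∀ k, D'.nroots + D'.rank ≤ k → ecol k = []) (y : Env F)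
    (v : List Term) :
    eM D D' F ecol *ᵥ evalV D' y v =
      evalV D y (applyL (fun _ => ecol) 0 ⟨2, 0, 0, 0, 0⟩ v) := by
  induction v with
  | nil => simp [evalV_nil, applyL]
  | cons T l ih =>
    have : applyL (fun _ => ecol) 0 ⟨2, 0, 0, 0, 0⟩ (T :: l) =
        appEnts (ecol T.idx) ⟨2, 0, 0, 0, 0⟩ T (applyL (fun _ => ecol) 0 ⟨2, 0, 0, 0, 0⟩ l) := rfl
    rw [this, appEnts_sound, evalV_cons, mulVec_add, ih, Term.eval, mulVec_smul, eM_col hbig,
      oneMono_eval]

/-- check of `w · E = E · w'` on the `k`-th basis vector -/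
noncomputable def checkE (col col' : ℕ → ℕ → List Ent) (ecol : ℕ → List Ent)
    (w w' : List (ℕ × Mono)) (k : ℕ) : Bool :=
  eqV (applyW col w (applyL (fun _ => ecol) 0 ⟨2, 0, 0, 0, 0⟩ [Term.mk k 2 0 0 0 0]))
    (applyL (fun _ => ecol) 0 ⟨2, 0, 0, 0, 0⟩ (applyW col' w' [Term.mk k 2 0 0 0 0]))

theorem rect_eq_of_cols {A B : Matrix D.Idx D'.Idx F}
    (h : ∀ k < D'.nroots + D'.rank, A *ᵥ bv D' F k = B *ᵥ bv D' F k) : A = B := by
  apply ext_of_mulVec_single
  intro i
  obtain ⟨k, hk, hb⟩ := exists_bv (D := D') (F := F) i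
  rw [← hb]; exact h k hk

theorem checkE_sound {M : ℕ → F → Matrix D.Idx D.Idx F} {M' : ℕ → F → Matrix D'.Idx D'.Idx F}
    {col col' : ℕ → ℕ → List Ent} (h : ColOK D M col) (h' : ColOK D' M' col')
    (hbig : ∀ k, D'.nroots + D'.rank ≤ k → ecol k = []) {w w' : List (ℕ × Mono)}
    (hc : ∀ k < D'.nroots + D'.rank, checkE col col' ecol w w' k = true) (y : Env F) :
    (w.map fun p => M p.1 (p.2.eval y)).prod * eM D D' F ecol =
      eM D D' F ecol * (w'.map fun p => M' p.1 (p.2.eval y)).prod := by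
  apply rect_eq_of_cols
  intro k hk
  rw [← mulVec_mulVec, ← mulVec_mulVec, ← evalV_unit y k, applyE_sound hbig, applyW_sound h,
    applyW_sound h', applyE_sound hbig]
  exact eqV_sound y _ _ (hc k hk)

/-- check of `L · E = 1` on the `k`-th basis vector -/
noncomputable def checkLE (ecol lcol : ℕ → List Ent) (k : ℕ) : Bool :=
  eqV (applyL (fun _ => lcol) 0 ⟨2, 0, 0, 0, 0⟩
    (applyL (fun _ => ecol) 0 ⟨2, 0, 0, 0, 0⟩ [Term.mk k 2 0 0 0 0])) [Term.mk k 2 0 0 0 0]

theorem checkLE_sound {lcol : ℕ → List Ent}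
    (hbig : ∀ k, D'.nroots + D'.rank ≤ k → ecol k = [])
    (hbig' : ∀ k, D.nroots + D.rank ≤ k → lcol k = [])
    (hc : ∀ k < D'.nroots + D'.rank, checkLE ecol lcol k = true) :
    eM D' D F lcol * eM D D' F ecol = 1 := by
  apply rect_eq_of_cols
  intro k hk
  rw [← mulVec_mulVec, ← evalV_unit (envTU (0 : F) 0) k, applyE_sound hbig, applyE_sound hbig',
    one_mulVec]
  exact eqV_sound _ _ _ (hc k hk)

end Cfsg.Agent.Lib.Helper45
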