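import Cfsg.Agent.Lib.Helper45.GrEval
import Cfsg.Agent.Lib.Helper22.ChevTabD4
import Cfsg.Agent.Lib.Helper22.ChevTabG2

/-! Intertwining matrix between the adjoint modules of G2 and D4 (generated tables, checked by
the kernel). -/

set_option autoImplicit false
set_option maxRecDepth 1000000

namespace Cfsg.Agent.Lib.Helper45

open Cfsg.Lie Matrix Cfsg.Agent.Lib.Helper22

/-- columns of the embedding of the adjoint module of G2 in that of D4 -/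
def ecolD4 (k : ℕ) : List Ent := (([[⟨0, 2, 0⟩], [⟨1, 2, 0⟩], [⟨6, 3, 0⟩, ⟨3, 2, 0⟩, ⟨2, 2, 0⟩], [⟨8, 2, 0⟩, ⟨7, 2, 0⟩, ⟨4, 3, 0⟩], [⟨11, 3, 0⟩, ⟨10, 3, 0⟩, ⟨5, 3, 0⟩], [⟨9, 3, 0⟩], [⟨14, 3, 0⟩], [⟨18, 3, 0⟩, ⟨13, 3, 0⟩, ⟨12, 3, 0⟩], [⟨19, 3, 0⟩, ⟨16, 2, 0⟩, ⟨15, 2, 0⟩], [⟨21, 2, 0⟩, ⟨20, 2, 0⟩, ⟨17, 3, 0⟩], [⟨22, 2, 0⟩], [⟨23, 2, 0⟩], [⟨24, 3, 0⟩, ⟨26, 3, 0⟩, ⟨27, 3, 0⟩], [⟨25, 3, 0⟩]] : List (List Ent))).getD k []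

/-- columns of a left inverse -/
def lcolD4 (k : ℕ) : List Ent := (([[⟨0, 2, 0⟩], [⟨1, 2, 0⟩], [], [], [], [], [⟨2, 3, 0⟩], [], [⟨3, 2, 0⟩], [⟨5, 3, 0⟩], [], [⟨4, 3, 0⟩], [], [], [⟨6, 3, 0⟩], [], [], [], [⟨7, 3, 0⟩], [⟨8, 3, 0⟩], [], [⟨9, 2, 0⟩], [⟨10, 2, 0⟩], [⟨11, 2, 0⟩], [⟨12, 3, 0⟩], [⟨13, 3, 0⟩], [], []] : List (List Ent))).getD k []

theorem ecolD4_big : ∀ k, 14 ≤ k → ecolD4 k = [] := by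
  intro k hk
  unfold ecolD4
  rw [List.getD_eq_default]
  exact hk

theorem lcolD4_big : ∀ k, 28 ≤ k → lcolD4 k = [] := by
  intro k hk
  unfold lcolD4
  rw [List.getD_eq_default]
  exact hk

theorem chkLED4 : allBelow 14 (checkLE ecolD4 lcolD4) = true := by decide +kernel

theorem chkED4_0 : allBelow 14 (checkE (colX tbD4) (colX tbG2) ecolD4
    [(14, ⟨2, 0, 0, 1, 0⟩)] [(6, ⟨2, 0, 0, 1, 0⟩)]) = true := by decide +kernel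

theorem chkED4_1 : allBelow 14 (checkE (colX tbD4) (colX tbG2) ecolD4
    [(9, ⟨2, 0, 0, 1, 0⟩)] [(5, ⟨2, 0, 0, 1, 0⟩)]) = true := by decide +kernel

theorem chkED4_2 : allBelow 14 (checkE (colX tbD4) (colX tbG2) ecolD4
    [(18, ⟨2, 0, 0, 1, 0⟩), (13, ⟨2, 0, 0, 1, 0⟩), (12, ⟨2, 0, 0, 1, 0⟩)] [(7, ⟨2, 0, 0, 1, 0⟩)]) = true := by decide +kernel

theorem chkED4_3 : allBelow 14 (checkE (colX tbD4) (colX tbG2) ecolD4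
    [(5, ⟨2, 0, 0, 1, 0⟩), (10, ⟨2, 0, 0, 1, 0⟩), (11, ⟨2, 0, 0, 1, 0⟩)] [(4, ⟨2, 0, 0, 1, 0⟩)]) = true := by decide +kernel

end Cfsg.Agent.Lib.Helper45
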