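import Cfsg.Agent.Lib.Helper45.GrEval
import Cfsg.Agent.Lib.Helper22.ChevTabE6
import Cfsg.Agent.Lib.Helper22.ChevTabF4

/-! Intertwining matrix between the adjoint modules of F4 and E6 (generated tables, checked by
the kernel). -/

set_option autoImplicit false
set_option maxRecDepth 1000000

namespace Cfsg.Agent.Lib.Helper45

open Cfsg.Lie Matrix Cfsg.Agent.Lib.Helper22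

/-- columns of the embedding of the adjoint module of F4 in that of E6 -/
def ecolE6 (k : ℕ) : List Ent := (([[⟨0, 2, 0⟩], [⟨1, 2, 0⟩], [⟨2, 2, 0⟩], [⟨5, 2, 0⟩, ⟨3, 2, 0⟩], [⟨6, 2, 0⟩], [⟨8, 2, 0⟩], [⟨11, 2, 0⟩], [⟨16, 3, 0⟩, ⟨4, 2, 0⟩], [⟨17, 3, 0⟩, ⟨7, 2, 0⟩], [⟨19, 3, 0⟩, ⟨9, 2, 0⟩], [⟨26, 3, 0⟩, ⟨12, 2, 0⟩], [⟨22, 3, 0⟩, ⟨10, 2, 0⟩], [⟨30, 2, 0⟩, ⟨13, 2, 0⟩], [⟨33, 3, 0⟩, ⟨14, 2, 0⟩], [⟨15, 2, 0⟩, ⟨35, 2, 0⟩], [⟨18, 2, 0⟩], [⟨20, 2, 0⟩], [⟨27, 2, 0⟩], [⟨21, 2, 0⟩, ⟨23, 2, 0⟩], [⟨28, 2, 0⟩, ⟨31, 3, 0⟩], [⟨29, 2, 0⟩, ⟨34, 2, 0⟩], [⟨24, 3, 0⟩], [⟨32, 2, 0⟩], [⟨25, 2, 0⟩], [⟨46, 2, 0⟩], [⟨39, 2, 0⟩], [⟨47, 3, 0⟩], [⟨42, 2, 0⟩, ⟨37, 2, 0⟩], [⟨43, 2, 0⟩, ⟨40, 3, 0⟩], [⟨50, 2, 0⟩, ⟨48, 2, 0⟩], [⟨44,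 2, 0⟩], [⟨51, 2, 0⟩], [⟨53, 2, 0⟩], [⟨56, 2, 0⟩, ⟨36, 2, 0⟩], [⟨57, 2, 0⟩, ⟨38, 3, 0⟩], [⟨58, 2, 0⟩, ⟨41, 2, 0⟩], [⟨61, 2, 0⟩, ⟨49, 3, 0⟩], [⟨59, 2, 0⟩, ⟨45, 3, 0⟩], [⟨62, 2, 0⟩, ⟨52, 3, 0⟩], [⟨64, 2, 0⟩, ⟨54, 3, 0⟩], [⟨67, 2, 0⟩, ⟨55, 3, 0⟩], [⟨60, 2, 0⟩], [⟨63, 2, 0⟩], [⟨65, 2, 0⟩], [⟨66, 2, 0⟩, ⟨68, 2, 0⟩], [⟨69, 2, 0⟩], [⟨70, 2, 0⟩], [⟨71, 2, 0⟩], [⟨72, 2, 0⟩, ⟨77, 2, 0⟩], [⟨74, 2, 0⟩, ⟨76, 2, 0⟩], [⟨75, 2, 0⟩], [⟨73, 2, 0⟩]] : List (List Ent))).getD k []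

/-- columns of a left inverse -/
def lcolE6 (k : ℕ) : List Ent := (([[⟨0, 2, 0⟩], [⟨1, 2, 0⟩], [⟨2, 2, 0⟩], [], [], [⟨3, 2, 0⟩], [⟨4, 2, 0⟩], [], [⟨5, 2, 0⟩], [], [], [⟨6, 2, 0⟩], [], [], [], [⟨14, 2, 0⟩], [⟨7, 3, 0⟩], [⟨8, 3, 0⟩], [⟨15, 2, 0⟩], [⟨9, 3, 0⟩], [⟨16, 2, 0⟩], [⟨18, 2, 0⟩], [⟨11, 3, 0⟩], [], [⟨21, 3, 0⟩], [⟨23, 2, 0⟩], [⟨10, 3, 0⟩], [⟨17, 2, 0⟩], [⟨19, 2, 0⟩], [⟨20, 2, 0⟩], [⟨12, 2, 0⟩], [], [⟨22, 2, 0⟩], [⟨13, 3, 0⟩], [], [], [], [], [], [⟨25, 2, 0⟩], [], [], [⟨27, 2, 0⟩], [⟨28, 2, 0⟩], [⟨30, 2, 0⟩], [], [⟨24, 2, 0⟩], [⟨26, 3, 0⟩], [], [], [⟨29, 2, 0⟩], [⟨31, 2, 0⟩], [], [⟨32, 2, 0⟩], [], [], [⟨33, 2, 0⟩], [⟨34, 2, 0⟩], [⟨35, 2, 0⟩], [⟨37, 2, 0⟩], [⟨41, 2, 0⟩], [⟨36, 2, 0⟩], [⟨38, 2,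 0⟩], [⟨42, 2, 0⟩], [⟨39, 2, 0⟩], [⟨43, 2, 0⟩], [⟨44, 2, 0⟩], [⟨40, 2, 0⟩], [], [⟨45, 2, 0⟩], [⟨46, 2, 0⟩], [⟨47, 2, 0⟩], [⟨48, 2, 0⟩], [⟨51, 2, 0⟩], [⟨49, 2, 0⟩], [⟨50, 2, 0⟩], [], []] : List (List Ent))).getD k []

theorem ecolE6_big : ∀ k, 52 ≤ k → ecolE6 k = [] := by
  intro k hk
  unfold ecolE6
  rw [List.getD_eq_default]
  exact hk

theorem lcolE6_big : ∀ k, 78 ≤ k → lcolE6 k = [] := by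
  intro k hk
  unfold lcolE6
  rw [List.getD_eq_default]
  exact hk

theorem chkLEE6 : allBelow 52 (checkLE ecolE6 lcolE6) = true := by decide +kernel

theorem chkEE6_0 : allBelow 52 (checkE (colX tbE6) (colX tbF4) ecolE6
    [(46, ⟨2, 0, 0, 1, 0⟩)] [(24, ⟨2, 0, 0, 1, 0⟩)]) = true := by decide +kernel

theorem chkEE6_1 : allBelow 52 (checkE (colX tbE6) (colX tbF4) ecolE6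
    [(25, ⟨2, 0, 0, 1, 0⟩)] [(23, ⟨2, 0, 0, 1, 0⟩)]) = true := by decide +kernel

theorem chkEE6_2 : allBelow 52 (checkE (colX tbE6) (colX tbF4) ecolE6
    [(39, ⟨2, 0, 0, 1, 0⟩)] [(25, ⟨2, 0, 0, 1, 0⟩)]) = true := by decide +kernel

theorem chkEE6_3 : allBelow 52 (checkE (colX tbE6) (colX tbF4) ecolE6
    [(32, ⟨2, 0, 0, 1, 0⟩)] [(22, ⟨2, 0, 0, 1, 0⟩)]) = true := by decide +kernel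

theorem chkEE6_4 : allBelow 52 (checkE (colX tbE6) (colX tbF4) ecolE6
    [(42, ⟨2, 0, 0, 1, 0⟩), (37, ⟨2, 0, 0, 1, 0⟩)] [(27, ⟨2, 0, 0, 1, 0⟩)]) = true := by decide +kernel

theorem chkEE6_5 : allBelow 52 (checkE (colX tbE6) (colX tbF4) ecolE6
    [(29, ⟨2, 0, 0, 1, 0⟩), (34, ⟨2, 0, 0, 1, 0⟩)] [(20, ⟨2, 0, 0, 1, 0⟩)]) = true := by decide +kernel

theorem chkEE6_6 : allBelow 52 (checkE (colX tbE6) (colX tbF4) ecolE6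
    [(56, ⟨2, 0, 0, 1, 0⟩), (36, ⟨2, 0, 0, 1, 0⟩)] [(33, ⟨2, 0, 0, 1, 0⟩)]) = true := by decide +kernel

theorem chkEE6_7 : allBelow 52 (checkE (colX tbE6) (colX tbF4) ecolE6
    [(15, ⟨2, 0, 0, 1, 0⟩), (35, ⟨2, 0, 0, 1, 0⟩)] [(14, ⟨2, 0, 0, 1, 0⟩)]) = true := by decide +kernel

end Cfsg.Agent.Lib.Helper45
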