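import Cfsg.Agent.Lib.Helper45.TwistWeyl

/-!
# Counting in the (B,N)-pair of a fixed-point subgroup (abstract part)
-/

set_option autoImplicit false

namespace Cfsg.Agent.Lib.Helper45

open Cfsg.Agent.Lib.Helper8

section general

variable {G : Type*} [Group G] {P : Cfsg.BNPair G}

/-- `|G| = ∑_w |BwB|` -/
theorem card_eq_finsum_C [Finite G] : Nat.card G = ∑ᶠ w : Wy P, Nat.card (C P w) := by
  classical
  choose φ hφ using fun g : G => cover (P := P) g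
  haveI : Finite (Wy P) := inferInstance
  haveI := Fintype.ofFinite (Wy P)
  have h1 : Nat.card G = ∑ w : Wy P, Nat.card {g // φ g = w} := by
    rw [← Nat.card_congr (Equiv.sigmaFiberEquiv φ), Nat.card_sigma]
  rw [h1, finsum_eq_sum_of_fintype]
  apply Finset.sum_congr rfl
  intro w _
  have hset : {g | φ g = w} = C P w := by
    ext g
    constructor
    · rintro rfl
      exact hφ g
    · intro hg
      exact C_inj (hφ g) hg
  rw [← hset]; rfl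

lemma red_comp {W ι ι' : Type*} [Group W] {f : ι → W} (σ : ι' ≃ ι) (L : List ι') :
    Red (fun i => f (σ i)) L ↔ Red f (L.map σ) := by
  have hwp : ∀ L : List ι', wp (fun i => f (σ i)) L = wp f (L.map σ) := by
    intro L
    simp [wp, List.map_map, Function.comp_def]
  constructor
  · intro hL L' hL'
    have := hL (L'.map σ.symm) (by rw [hwp, hwp, List.map_map]; simpa using hL')
    simpa using this
  · intro hL L' hL'
    have := hL (L'.map σ) (by rw [← hwp, ← hwp, hL'])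
    simpa using this

/-- `|BswB| = a_s |BwB|` when `l(sw) > l(w)` -/
theorem card_C_red [Finite G] {ι : Type*} (σ : ι ≃ P.S) (a : ι → ℕ)
    (ha : ∀ i, Nat.card (C P (sg P (σ i))) = a i * Nat.card P.B) (i : ι) (L : List ι)
    (h : Red (fun i => sg P (σ i)) (i :: L)) :
    Nat.card (C P (wp (fun i => sg P (σ i)) (i :: L))) =
      a i * Nat.card (C P (wp (fun i => sg P (σ i)) L)) := by
  have hwp : ∀ L : List ι, wp (fun i => sg P (σ i)) L = wp (sg P) (L.map σ) := by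
    intro L
    simp [wp, List.map_map, Function.comp_def]
  rw [red_comp, List.map_cons] at h
  have h1 := card_C_mul (qfam.mem_of_red h)
  rw [ha] at h1
  rw [Helper8.wp_cons, hwp]
  have hB : 0 < Nat.card P.B := Nat.card_pos
  apply Nat.eq_of_mul_eq_mul_right hB
  rw [h1]; ring

end general

variable {A : Type*} [Group A] {G B N H U : Subgroup A} {Um : A → Subgroup A} {Fix G1 : Subgroup A}
  {S1 : Set A} {P : Cfsg.BNPair ↥G1}

section
variable (hS : SharpBN G B N H U Um) (hF : FixBN G B N H U Um Fix G1 S1)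
  (hPB : P.B = (B ⊓ G1).subgroupOf G1) (hPN : P.N = (N ⊓ G1).subgroupOf G1)
  (hPS : P.S = {s : ↥G1 | (s : A) ∈ S1})

include hS hF hPB in
/-- `|B¹ n B¹| = |B¹| |U_n⁻ ∩ G¹|` -/
theorem card_DC1 (n : ↥G1) (hn : (n : A) ∈ N) :
    Nat.card (DC P n) = Nat.card P.B * Nat.card ↥(Um (n : A) ⊓ G1) := by
  rw [← Nat.card_prod]
  symm
  let Ψ : P.B × ↥(Um (n : A) ⊓ G1) → DC P n := fun p =>
    ⟨p.1 * n * ⟨p.2, p.2.2.2⟩, mem_DC.2 ⟨p.1, p.1.2, ⟨p.2, p.2.2.2⟩,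
      (mem_PB1 hPB).2 (hS.U_le (hS.Um_le _ p.2.2.1)), rfl⟩⟩
  apply Nat.card_congr (Equiv.ofBijective Ψ ⟨?_, ?_⟩)
  · rintro ⟨b, u⟩ ⟨b', u'⟩ h
    have h' : ((b : ↥G1) : A) * n * u = ((b' : ↥G1) : A) * n * u' :=
      congrArg (fun z : DC P n => ((z : ↥G1) : A)) h
    obtain ⟨h1, h2⟩ := (hS.uniq _ _ _ _ _ _ ((mem_PB1 hPB).1 b.2) ((mem_PB1 hPB).1 b'.2) hn hn
      u.2.1 u'.2.1 h').2 rfl
    exact Prod.ext (Subtype.ext (Subtype.ext h1)) (Subtype.ext h2)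
  · rintro ⟨g, hg⟩
    obtain ⟨x, hx, y, hy, e⟩ := mem_DC.1 hg
    obtain ⟨b, hb, hb1, u, hu, hu1, e'⟩ := hF.key hS g.2 hn n.2
      ⟨x, (mem_PB1 hPB).1 hx, y, (mem_PB1 hPB).1 hy, congrArg Subtype.val e⟩
    exact ⟨(⟨⟨b, hb1⟩, (mem_PB1 hPB).2 hb⟩, ⟨u, hu, hu1⟩), Subtype.ext (Subtype.ext e'.symm)⟩

include hS hF hPB hPN in
/-- a criterion for `C(s) C(w) = C(sw)` -/
theorem mem_Qs1 (s : P.S) (n : P.N)
    (h : ∀ x ∈ B, ∃ y ∈ B, ∃ z ∈ B,
      (((s : ↥G1) : A)) * x * ((n : ↥G1) : A) = y * ((((s : ↥G1) : A)) * ((n : ↥G1) : A)) * z) :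
    (QuotientGroup.mk n : Wy P) ∈ Qs P s := by
  intro g hg k hk
  have hsx : C P (sg P s * QuotientGroup.mk n) = DC P ((s : ↥G1) * (n : ↥G1)) := rfl
  rw [hsx]
  rw [C_sg] at hg
  have hk' : k ∈ DC P (n : ↥G1) := hk
  obtain ⟨a, ha, b, hb, rfl⟩ := mem_DC.1 hg
  obtain ⟨c, hc, d, hd, rfl⟩ := mem_DC.1 hk'
  have hsN : ((s : ↥G1) : A) ∈ N := (mem_PN1 hPN).1 (P.subset s.2)
  have hnN : ((n : ↥G1) : A) ∈ N := (mem_PN1 hPN).1 n.2
  have key : (s : ↥G1) * (b * c) * (n : ↥G1) ∈ DC P ((s : ↥G1) * (n : ↥G1)) := by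
    obtain ⟨y, hy, z, hz, e⟩ := h _ ((mem_PB1 hPB).1 (mul_mem hb hc))
    obtain ⟨b', hb', hb1, u, hu, hu1, e'⟩ := hF.key hS ((s : ↥G1) * (b * c) * (n : ↥G1)).2
      (mul_mem hsN hnN) ((s : ↥G1) * (n : ↥G1)).2 ⟨y, hy, z, hz, e⟩
    exact mem_DC.2 ⟨⟨b', hb1⟩, (mem_PB1 hPB).2 hb', ⟨u, hu1⟩,
      (mem_PB1 hPB).2 (hS.U_le (hS.Um_le _ hu)), Subtype.ext e'⟩
  have : a * ↑s * b * (c * (n : ↥G1) * d) = a * ((s : ↥G1) * (b * c) * (n : ↥G1)) * d := by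
    group
  rw [this]
  exact DC_mul_right hd (DC_mul_left ha key)

end

end Cfsg.Agent.Lib.Helper45
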