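import Cfsg.Agent.Lib.Helper45.TwistCount
import Cfsg.Agent.Lib.Helper45.TwistSetup
import Cfsg.Agent.Lib.Helper45.ChevOrder

/-!
# Counting in twisted groups: reduced words, `U_n⁻ ∩ G¹`
-/

set_option autoImplicit false

namespace Cfsg.Agent.Lib.Helper45

open Cfsg.Lie Matrix Cfsg.Agent.Lib.Helper23 Cfsg.Agent.Lib.Helper22 Cfsg.Agent.Lib.Helper8

variable {D : ChevalleyDatum} {F : Type*} [Field F]

/-- the word `w` is reduced (checked on roots) -/
def RedW (D : ChevalleyDatum) : List ℕ → Prop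
  | [] => True
  | i :: w => D.IsPosRoot (wact D w.reverse (D.simple i)) ∧ RedW D w

instance redWDec (D : ChevalleyDatum) : ∀ w, Decidable (RedW D w)
  | [] => inferInstanceAs (Decidable True)
  | i :: w =>
    haveI := redWDec D w
    inferInstanceAs (Decidable (D.IsPosRoot (wact D w.reverse (D.simple i)) ∧ RedW D w))

theorem RedW.of_append {ω z : List ℕ} (h : RedW D (ω ++ z)) : RedW D z := by
  induction ω with
  | nil => exact h
  | cons i ω ih => exact ih h.2

/-- `n_ω B n_z ⊆ B n_ω n_z B` if `ω z` is reduced -/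
theorem nword_mul_borel_mul_red (b : Bundle D F) {ω z : List ℕ} (hω : ∀ i ∈ ω, i < D.rank)
    (hz : ∀ i ∈ z, i < D.rank) (h : RedW D (ω ++ z)) {x : GL D.Idx F}
    (hx : x ∈ D.borelSubgroup F) :
    ∃ y ∈ D.borelSubgroup F, ∃ y' ∈ D.borelSubgroup F,
      b.hA.nword ω * x * b.hA.nword z = y * (b.hA.nword ω * b.hA.nword z) * y' := by
  induction ω with
  | nil => exact ⟨x, hx, 1, one_mem _, by simp⟩
  | cons i ω ih =>
    have hω' : ∀ j ∈ ω, j < D.rank := fun j hj => hω j (by simp [hj])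
    obtain ⟨y, hy, y', hy', e⟩ := ih hω' h.2
    have hwz : ∀ k ∈ ω ++ z, k < D.rank := by
      intro k hk
      rcases List.mem_append.1 hk with h | h
      · exact hω' k h
      · exact hz k h
    have h1 := nn_mul_borel_mul_nword b.hA b.hR b.hN b.hT b.hC (hω i (by simp)) hwz h.1 hy
    rw [DoubleCoset.mem_doubleCoset] at h1
    obtain ⟨u, hu, u', hu', e'⟩ := h1
    refine ⟨u, hu, u' * y', mul_mem hu' hy', ?_⟩
    rw [AddFact.nword_append] at e'
    rw [AddFact.nword_cons]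
    calc b.hA.nn i * b.hA.nword ω * x * b.hA.nword z
        = b.hA.nn i * (b.hA.nword ω * x * b.hA.nword z) := by group
      _ = (b.hA.nn i * y * (b.hA.nword ω * b.hA.nword z)) * y' := by rw [e]; group
      _ = _ := by rw [e']; group

namespace TwSetup

variable {b : Bundle D F}
  {σ : GL D.Idx F → GL D.Idx F} {ρ ρ' : ℕ → ℕ} {c : ℕ → F → F} {orbs : List (List ℕ)}
  {cert : List (List ℕ × List (List ℕ))} {G1 : Subgroup (GL D.Idx F)}
  (X : TwSetup D F b σ ρ ρ' c orbs cert G1)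
include X

theorem flatten_rank {L : List (List ℕ)} (hL : ∀ ω ∈ L, ω ∈ orbs) : ∀ i ∈ L.flatten, i < D.rank := by
  intro i hi
  obtain ⟨ω, h1, h2⟩ := List.mem_flatten.1 hi
  exact X.hT.orb.rank ω (hL ω h1) i h2

theorem nword_flatten_mem {L : List (List ℕ)} (hL : ∀ ω ∈ L, ω ∈ orbs) :
    b.hA.nword L.flatten ∈ G1 :=
  Cfsg.Agent.Lib.Helper45.nword_flatten_mem X.hD b X.hT X.hone X.hnegone X.hG1 hL

/-- `|U_n⁻ ∩ G¹|` is multiplicative along reduced words -/
theorem card_Umin_word [Finite F] (a : List ℕ → ℕ)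
    (ha : ∀ ω ∈ orbs, Nat.card ↥(Umin D F (b.hA.nword ω) ⊓ G1) = a ω) :
    ∀ L : List (List ℕ), (∀ ω ∈ L, ω ∈ orbs) → RedW D L.flatten →
      Nat.card ↥(Umin D F (b.hA.nword L.flatten) ⊓ G1) = (L.map a).prod := by
  obtain ⟨P, hPB, hPN, hPS⟩ := X.exists_bnPair
  have hfin : Finite ↥G1 := inferInstance
  have hB : 0 < Nat.card P.B := Nat.card_pos
  have hN : ∀ L : List (List ℕ), (∀ ω ∈ L, ω ∈ orbs) →
      b.hA.nword L.flatten ∈ D.monomialSubgroup F :=
    fun L hL => b.hA.nword_mem_mono b.hR (X.flatten_rank hL)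
  intro L
  induction L with
  | nil =>
    intro _ _
    have h1 := card_DC1 X.sharp X.fixBN hPB (1 : ↥G1) (one_mem _)
    have h2 : DC P (1 : ↥G1) = (P.B : Set ↥G1) := by
      ext g; exact mem_DC_one
    rw [h2] at h1
    have h3 : Nat.card (P.B : Set ↥G1) = Nat.card P.B := rfl
    rw [h3] at h1
    have h4 : Nat.card ↥(Umin D F ((1 : ↥G1) : GL D.Idx F) ⊓ G1) = 1 := by
      apply Nat.eq_of_mul_eq_mul_left hB
      rw [← h1, mul_one]
    simpa using h4
  | cons ω L ih =>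
    intro hL hred
    have hL' : ∀ ω' ∈ L, ω' ∈ orbs := fun ω' h => hL ω' (by simp [h])
    have hω : ω ∈ orbs := hL ω (by simp)
    rw [List.flatten_cons] at hred
    have ih' := ih hL' hred.of_append
    let s : P.S := ⟨⟨b.hA.nword ω, X.nword_mem hω⟩, by rw [hPS]; exact ⟨ω, hω, rfl⟩⟩
    let n : P.N := ⟨⟨b.hA.nword L.flatten, X.nword_flatten_mem hL'⟩, (mem_PN1 hPN).2 (hN L hL')⟩
    have hQ : (QuotientGroup.mk n : Wy P) ∈ Qs P s :=
      mem_Qs1 X.sharp X.fixBN hPB hPN s n fun x hx =>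
        nword_mul_borel_mul_red b (X.hT.orb.rank ω hω) (X.flatten_rank hL') hred hx
    have h1 := card_C_mul hQ
    have e1 : C P (sg P s * QuotientGroup.mk n) = DC P ((s : ↥G1) * (n : ↥G1)) := rfl
    have e2 : C P (QuotientGroup.mk n : Wy P) = DC P (n : ↥G1) := rfl
    rw [e1, e2, C_sg,
      card_DC1 X.sharp X.fixBN hPB _ (mul_mem (b.hA.nword_mem_mono b.hR (X.hT.orb.rank ω hω))
        (hN L hL')),
      card_DC1 X.sharp X.fixBN hPB _ (b.hA.nword_mem_mono b.hR (X.hT.orb.rank ω hω)),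
      card_DC1 X.sharp X.fixBN hPB _ (hN L hL')] at h1
    have e3 : (((s : ↥G1) * (n : ↥G1) : ↥G1) : GL D.Idx F) = b.hA.nword (ω :: L).flatten := by
      rw [List.flatten_cons, AddFact.nword_append]; rfl
    have e4 : ((s : ↥G1) : GL D.Idx F) = b.hA.nword ω := rfl
    have e5 : ((n : ↥G1) : GL D.Idx F) = b.hA.nword L.flatten := rfl
    rw [e3, e4, e5, ha ω hω, ih'] at h1
    rw [List.map_cons, List.prod_cons]
    apply Nat.eq_of_mul_eq_mul_left (Nat.mul_pos hB hB)
    calc Nat.card P.B * Nat.card P.B * Nat.card ↥(Umin D F (b.hA.nword (ω :: L).flatten) ⊓ G1)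
        = Nat.card P.B * Nat.card ↥(Umin D F (b.hA.nword (ω :: L).flatten) ⊓ G1) * Nat.card P.B := by
          ring
      _ = _ := by rw [h1]; ring

end TwSetup

end Cfsg.Agent.Lib.Helper45
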