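import Cfsg.Agent.Lib.Helper45.TwistDec
import Cfsg.Prelude.Def_ChevD4

/-! Tables for the twisted group of type D4 (generated, checked by the kernel). -/

set_option autoImplicit false

namespace Cfsg.Agent.Lib.Helper45

open Cfsg.Lie Cfsg.Agent.Lib.Helper23

/-- the symmetry of the root system -/
def rhoD4 (r : ℕ) : ℕ := ([0, 1, 6, 2, 7, 10, 3, 8, 4, 9, 11, 5, 18, 12, 14, 19, 15, 20, 13, 16, 21, 17, 22, 23] : List ℕ).getD r 0

/-- its inverse -/
def rhoInvD4 (r : ℕ) : ℕ := ([0, 1, 3, 6, 8, 11, 2, 4, 7, 9, 5, 10, 13, 18, 14, 16, 19, 21, 12, 15, 17, 20, 22, 23] : List ℕ).getD r 0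

/-- the signs of the graph automorphism -/
def gamD4 (r : ℕ) : ℤ := ([1, 1, -1, 1, -1, 1, -1, 1, -1, 1, 1, 1, 1, 1, 1, -1, 1, -1, 1, -1, 1, -1, 1, 1] : List ℤ).getD r 0

/-- the orbits of the symmetry on the fundamental roots -/
def orbsD4 : List (List ℕ) := [[1], [0, 2, 3]]

/-- the orbits on the positive roots with words moving them to fundamental orbits -/
def certD4 : List (List ℕ × List (List ℕ)) := [([18, 13, 12], []), ([14], []), ([19, 16, 15], [[1]]), ([17, 20, 21], [[1], [0, 2, 3]]), ([22], [[0, 2, 3]]), ([23], [[0, 2, 3], [1]])]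

set_option maxRecDepth 100000 in
theorem graphTabD4 : GraphTab chevD4 rhoD4 rhoInvD4 gamD4 := by decide +kernel

set_option maxRecDepth 100000 in
theorem orbOKD4 : OrbOK chevD4 rhoD4 rhoInvD4 orbsD4 := by decide +kernel

set_option maxRecDepth 100000 in
theorem twTabD4 : TwTab chevD4 rhoD4 rhoInvD4 orbsD4 certD4 :=
  ⟨orbOKD4, by decide +kernel, by decide +kernel, by decide +kernel, by decide +kernel,
    by decide +kernel, by decide +kernel, by decide +kernel, by decide +kernel, by decide +kernel,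
    by decide +kernel, by decide +kernel⟩

theorem gamOneD4 : ∀ ω ∈ orbsD4, (∀ a ∈ ω.map chevD4.simple, gamD4 (rhoInvD4 a) = 1) ∧
    ∀ a ∈ ω.map (fun i => chevD4.neg (chevD4.simple i)), gamD4 (rhoInvD4 a) = 1 := by decide +kernel

end Cfsg.Agent.Lib.Helper45
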