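import Cfsg.Agent.Lib.Helper45.TwistDec
import Cfsg.Prelude.Def_ChevE6

/-! Tables for the twisted group of type E6 (generated, checked by the kernel). -/

set_option autoImplicit false

namespace Cfsg.Agent.Lib.Helper45

open Cfsg.Lie Cfsg.Agent.Lib.Helper23

/-- the symmetry of the root system -/
def rhoE6 (r : ℕ) : ℕ := ([0, 1, 2, 5, 16, 3, 6, 17, 8, 19, 22, 11, 26, 30, 33, 35, 4, 7, 18, 9, 20, 23, 10, 21, 24, 25, 12, 27, 31, 34, 13, 28, 32, 14, 29, 15, 56, 42, 57, 39, 43, 58, 37, 40, 44, 59, 46, 47, 50, 61, 48, 51, 62, 53, 64, 67, 36, 38, 41, 45, 60, 49, 52, 63, 54, 65, 68, 55, 66, 69, 70, 71] : List ℕ).getD r 0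

/-- its inverse -/
def rhoInvE6 (r : ℕ) : ℕ := ([0, 1, 2, 5, 16, 3, 6, 17, 8, 19, 22, 11, 26, 30, 33, 35, 4, 7, 18, 9, 20, 23, 10, 21, 24, 25, 12, 27, 31, 34, 13, 28, 32, 14, 29, 15, 56, 42, 57, 39, 43, 58, 37, 40, 44, 59, 46, 47, 50, 61, 48, 51, 62, 53, 64, 67, 36, 38, 41, 45, 60, 49, 52, 63, 54, 65, 68, 55, 66, 69, 70, 71] : List ℕ).getD r 0

/-- the signs of the graph automorphism -/
def gamE6 (r : ℕ) : ℤ := ([1, 1, 1, 1, -1, 1, 1, -1, 1, -1, -1, 1, -1, 1, -1, 1, -1, -1, 1, -1, 1, 1, -1, 1, 1, 1, -1, 1, -1, 1, 1, -1, 1, -1, 1, 1, 1, 1, -1, 1, -1, 1, 1, -1, 1, -1, 1, 1, 1, -1, 1, 1, -1, 1, -1, -1, 1, -1, 1, -1, 1, -1, -1, 1, -1, 1, 1, -1, 1, 1, 1, 1] : List ℤ).getD r 0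

/-- the orbits of the symmetry on the fundamental roots -/
def orbsE6 : List (List ℕ) := [[1], [3], [0, 5], [2, 4]]

/-- the orbits on the positive roots with words moving them to fundamental orbits -/
def certE6 : List (List ℕ × List (List ℕ)) := [([56, 36], []), ([42, 37], []), ([57, 38], [[0, 5]]), ([39], []), ([43, 40], [[3]]), ([58, 41], [[0, 5], [3]]), ([44], [[2, 4]]), ([59, 45], [[0, 5], [3], [2, 4]]), ([46], []), ([47], [[1]]), ([50, 48], [[3], [1]]), ([61, 49], [[0, 5], [3], [1]]), ([51], [[2, 4], [1]]), ([62, 52], [[0, 5], [3], [2, 4], [1]]), ([53], [[2, 4], [1], [3]]), ([64, 54], [[0, 5], [3], [2, 4], [1], [3]]), ([67, 55], [[0, 5], [3], [2, 4], [1], [3], [2, 4]]), ([60], [[2, 4], [0, 5]]), ([63], [[2, 4], [0, 5], [1]]), ([65], [[2, 4], [0, 5], [1], [3]]), ([68, 66], [[0, 5], [3], [2, 4], [1], [3], [2, 4], [0, 5]]), ([69], [[2, 4], [0, 5], [1], [3], [2, 4]]), ([70], [[2, 4], [0, 5], [1],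 [3], [2, 4], [3]]), ([71], [[2, 4], [0, 5], [1], [3], [2, 4], [3], [1]])]

set_option maxRecDepth 100000 in
theorem graphTabE6 : GraphTab chevE6 rhoE6 rhoInvE6 gamE6 := by decide +kernel

set_option maxRecDepth 100000 in
theorem orbOKE6 : OrbOK chevE6 rhoE6 rhoInvE6 orbsE6 := by decide +kernel

set_option maxRecDepth 100000 in
theorem twTabE6 : TwTab chevE6 rhoE6 rhoInvE6 orbsE6 certE6 :=
  ⟨orbOKE6, by decide +kernel, by decide +kernel, by decide +kernel, by decide +kernel,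
    by decide +kernel, by decide +kernel, by decide +kernel, by decide +kernel, by decide +kernel,
    by decide +kernel, by decide +kernel⟩

theorem gamOneE6 : ∀ ω ∈ orbsE6, (∀ a ∈ ω.map chevE6.simple, gamE6 (rhoInvE6 a) = 1) ∧
    ∀ a ∈ ω.map (fun i => chevE6.neg (chevE6.simple i)), gamE6 (rhoInvE6 a) = 1 := by decide +kernel

end Cfsg.Agent.Lib.Helper45
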