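import Cfsg.Agent.Lib.Helper45.TwistBN
import Cfsg.Agent.Lib.Helper45.BNCount
import Cfsg.Agent.Lib.Helper45.ReflLenComp

/-!
# The Weyl group of a (B,N)-pair given inside an ambient group (abstract part)
-/

set_option autoImplicit false

namespace Cfsg.Agent.Lib.Helper45

open Cfsg.Agent.Lib.Helper8

variable {A : Type*} [Group A] {B N H G1 : Subgroup A} {S1 : Set A}
  {P : Cfsg.BNPair ↥G1}

section
variable (hPB : P.B = (B ⊓ G1).subgroupOf G1) (hPN : P.N = (N ⊓ G1).subgroupOf G1)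
  (hPS : P.S = {s : ↥G1 | (s : A) ∈ S1})

include hPB in
lemma mem_PB1 {g : ↥G1} : g ∈ P.B ↔ (g : A) ∈ B := by
  rw [hPB, Subgroup.mem_subgroupOf, Subgroup.mem_inf]
  exact ⟨fun h => h.1, fun h => ⟨h, g.2⟩⟩

include hPN in
lemma mem_PN1 {g : ↥G1} : g ∈ P.N ↔ (g : A) ∈ N := by
  rw [hPN, Subgroup.mem_subgroupOf, Subgroup.mem_inf]
  exact ⟨fun h => h.1, fun h => ⟨h, g.2⟩⟩

include hPB hPS in
/-- The Weyl group with its generators: exchange condition and Coxeter matrix. -/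
theorem fix_weyl {n : ℕ} (r : Fin n → A) (hr : S1 = Set.range r) (hrG : ∀ i, r i ∈ G1)
    (M : CoxeterMatrix (Fin n)) (hpos : ∀ i j, 0 < M i j)
    (h1 : ∀ i j, (r i * r j) ^ (M i j) ∈ B)
    (h2 : ∀ i j, ∀ t, 0 < t → t < M i j → (r i * r j) ^ t ∉ B) :
    ∃ σ : Fin n ≃ P.S, (∀ i, (((σ i : P.S) : ↥G1) : A) = r i) ∧
      (∀ i, sg P (σ i) * sg P (σ i) = 1) ∧ (∀ w, ∃ L, wp (fun i => sg P (σ i)) L = w) ∧
      ExCond (fun i => sg P (σ i)) ∧ (∀ i j, orderOf (sg P (σ i) * sg P (σ j)) = M i j) := by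
  have hmem : ∀ i, (⟨r i, hrG i⟩ : ↥G1) ∈ P.S := by
    intro i
    rw [hPS, hr]
    exact ⟨i, rfl⟩
  let σ₀ : Fin n → P.S := fun i => ⟨⟨r i, hrG i⟩, hmem i⟩
  let f : Fin n → Wy P := fun i => sg P (σ₀ i)
  have hpow : ∀ (i j : Fin n) (t : ℕ), (f i * f j) ^ t = 1 ↔ (r i * r j) ^ t ∈ B := by
    intro i j t
    have e : (f i * f j) ^ t = QuotientGroup.mk
        (((⟨⟨r i, hrG i⟩, P.subset (σ₀ i).2⟩ : P.N) * ⟨⟨r j, hrG j⟩, P.subset (σ₀ j).2⟩) ^ t) := rfl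
    rw [e, QuotientGroup.eq_one_iff, mem_TN, mem_PB1 hPB]
    rfl
  have hord : ∀ i j, orderOf (f i * f j) = M i j := by
    intro i j
    rw [orderOf_eq_iff (hpos i j)]
    refine ⟨(hpow i j _).2 (h1 i j), fun t ht ht0 => ?_⟩
    rw [Ne, hpow]
    exact h2 i j t ht0 ht
  have hσinj : Function.Injective σ₀ := by
    intro i j hij
    by_contra hne
    have e1 : f i * f j = 1 := by
      show sg P (σ₀ i) * sg P (σ₀ j) = 1
      rw [hij]; exact sg_mul_self _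
    have e2 := hord i j
    rw [e1, orderOf_one] at e2
    exact M.off_diagonal i j hne e2.symm
  have hσsurj : Function.Surjective σ₀ := by
    rintro ⟨s, hs⟩
    have hs' : (s : A) ∈ Set.range r := by
      rw [← hr]
      have := hs
      rw [hPS] at this
      exact this
    obtain ⟨i, hi⟩ := hs'
    exact ⟨i, Subtype.ext (Subtype.ext hi)⟩
  let σ : Fin n ≃ P.S := Equiv.ofBijective σ₀ ⟨hσinj, hσsurj⟩
  refine ⟨σ, fun i => rfl, fun i => sg_mul_self _, ?_, exCond_comp σ (exCond (P := P)), hord⟩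
  intro w
  obtain ⟨L, hL⟩ := exists_word w
  refine ⟨L.map σ.symm, ?_⟩
  rw [← hL]
  simp only [wp, List.map_map]
  congr 1
  apply List.map_congr_left
  intro s _
  show sg P (σ (σ.symm s)) = sg P s
  rw [Equiv.apply_symm_apply]

include hPB hPN in
/-- `N¹/H¹` is the Weyl group. -/
theorem fix_weyl_hom (hBN : ∀ x, x ∈ B → x ∈ N → x ∈ H) (hHB : H ≤ B) {W : Type*} [Group W]
    (e : W ≃* Wy P) :
    ∃ φ : ↥(N ⊓ G1) →* W, Function.Surjective φ ∧ φ.ker = (H ⊓ G1).subgroupOf (N ⊓ G1) ∧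
      ∀ g : ↥(N ⊓ G1), e (φ g) = QuotientGroup.mk
        ⟨⟨(g : A), g.2.2⟩, (mem_PN1 hPN).2 g.2.1⟩ := by
  let ι : ↥(N ⊓ G1) ≃* ↥P.N :=
    (Subgroup.subgroupOfEquivOfLe (inf_le_right : N ⊓ G1 ≤ G1)).symm.trans
      (MulEquiv.subgroupCongr hPN.symm)
  have hι : ∀ g : ↥(N ⊓ G1), (((ι g : ↥P.N) : ↥G1) : A) = g := fun g => rfl
  let φ : ↥(N ⊓ G1) →* W :=
    e.symm.toMonoidHom.comp ((QuotientGroup.mk' (TN P)).comp ι.toMonoidHom)
  have hφ : ∀ g, φ g = e.symm (QuotientGroup.mk (ι g)) := fun g => rfl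
  refine ⟨φ, ?_, ?_, ?_⟩
  · exact e.symm.surjective.comp ((QuotientGroup.mk'_surjective _).comp ι.surjective)
  · ext g
    rw [MonoidHom.mem_ker, hφ, EmbeddingLike.map_eq_one_iff, QuotientGroup.eq_one_iff, mem_TN,
      mem_PB1 hPB, hι, Subgroup.mem_subgroupOf, Subgroup.mem_inf]
    exact ⟨fun h => ⟨hBN _ h g.2.1, g.2.2⟩, fun h => hHB h.1⟩
  · intro g
    rw [hφ, MulEquiv.apply_symm_apply]
    rfl

end

end Cfsg.Agent.Lib.Helper45
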